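import Cfsg.Agent.Lib.Helper83.RealOrbits
import Cfsg.Agent.Lib.Helper78.FrobSchur2
import Cfsg.Agent.Lib.Helper5.Clifford

set_option autoImplicit false

namespace Cfsg.Agent.Lib.Helper83

open Cfsg.Agent.Lib.Helper20 Cfsg.Agent.Lib.Helper78 Cfsg.Agent.Lib.Helper5
open scoped ComplexConjugate

section

variable {G : Type*} [Group G] (N : Subgroup G) [N.Normal]

theorem mem_of_sq_mem_of_odd_index (hodd : Odd N.index) {x : G} (h : x * x ∈ N) : x ∈ N := by
  obtain ⟨k, hk⟩ := hodd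
  have h1 : x ^ N.index ∈ N := Subgroup.pow_index_mem N x
  have h2 : (x * x) ^ k ∈ N := Subgroup.pow_mem N h k
  have h3 : x = ((x * x) ^ k)⁻¹ * x ^ N.index := by
    rw [hk, pow_succ, pow_mul, pow_two, inv_mul_cancel_left]
  rw [h3]
  exact N.mul_mem (N.inv_mem h2) h1

theorem semiconj_odd_pow {c g : G} (h : c * g * c⁻¹ = g⁻¹) (k : ℕ) :
    c ^ (2 * k + 1) * g * (c ^ (2 * k + 1))⁻¹ = g⁻¹ := by
  have h1 : SemiconjBy c g g⁻¹ := by
    show c * g = g⁻¹ * c
    rw [← h]; group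
  have h2 : SemiconjBy c g⁻¹ g := by
    have := h1.inv_right
    rwa [inv_inv] at this
  have h3 : Commute (c * c) g := h2.mul_left h1
  have h4 : Commute ((c * c) ^ k) g := h3.pow_left k
  have h5 : SemiconjBy (c ^ (2 * k + 1)) g g⁻¹ := by
    rw [pow_succ, pow_mul, pow_two]
    have h6 : SemiconjBy ((c * c) ^ k) g⁻¹ g⁻¹ := h4.inv_right
    exact h6.mul_left h1
  have h7 : c ^ (2 * k + 1) * g = g⁻¹ * c ^ (2 * k + 1) := h5
  rw [h7, mul_inv_cancel_right]

/-- real elements of `G` lie in `N` and are `N`-real, when `N` has odd index. -/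
theorem real_mem_of_odd_index (hodd : Odd N.index) {g : G} (h : IsConj g g⁻¹) :
    ∃ hg : g ∈ N, IsConj (⟨g, hg⟩ : N) (⟨g, hg⟩ : N)⁻¹ := by
  obtain ⟨c, hc⟩ := isConj_iff.mp h
  obtain ⟨k, hk⟩ := hodd
  have h1 := semiconj_odd_pow hc k
  rw [← hk] at h1
  have hcN : c ^ N.index ∈ N := Subgroup.pow_index_mem N c
  set d := c ^ N.index with hd
  have h2 : g⁻¹ * g⁻¹ ∈ N := by
    have : g⁻¹ * g⁻¹ = d * (g * d⁻¹ * g⁻¹) := by
      calc g⁻¹ * g⁻¹ = (d * g * d⁻¹) * g⁻¹ := by rw [h1]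
        _ = d * (g * d⁻¹ * g⁻¹) := by group
    rw [this]
    exact N.mul_mem hcN (Subgroup.Normal.conj_mem inferInstance _ (N.inv_mem hcN) g)
  have h3 : g⁻¹ ∈ N := mem_of_sq_mem_of_odd_index N ⟨k, hk⟩ h2
  have hg : g ∈ N := by simpa using N.inv_mem h3
  refine ⟨hg, isConj_iff.mpr ⟨⟨d, hcN⟩, ?_⟩⟩
  apply Subtype.ext
  exact h1

end

section

variable {G : Type*} [Group G] [Fintype G] (N : Subgroup G) [N.Normal] [Fintype N]

theorem fsTheta_restrict (hodd : Odd N.index) (n : N) : fsTheta (n : G) = fsTheta n := by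
  classical
  unfold fsTheta
  have h1 : ∑ h : G, (if h * h = (n : G) then (1 : ℂ) else 0)
      = ∑ h ∈ Finset.univ.filter (fun h : G => h ∈ N), (if h * h = (n : G) then (1 : ℂ) else 0) := by
    symm
    apply Finset.sum_filter_of_ne
    intro h _ hne
    have : h * h = (n : G) := by
      by_contra hc
      exact hne (if_neg hc)
    exact mem_of_sq_mem_of_odd_index N hodd (this ▸ n.2)
  rw [h1]
  rw [Finset.sum_subtype (Finset.univ.filter (fun h : G => h ∈ N)) (p := fun h => h ∈ N)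
    (by intro x; simp)]
  apply Finset.sum_congr rfl
  intro h _
  have : ((h : G) * (h : G) = (n : G)) ↔ h * h = n := by
    rw [← Subgroup.coe_mul, Subtype.ext_iff]
  by_cases hh : h * h = n
  · rw [if_pos (this.mpr hh), if_pos hh]
  · rw [if_neg (fun h' => hh (this.mp h')), if_neg hh]

theorem fsNu_sum_restrict [Fintype (IrrCharacter G)] (hodd : Odd N.index) {φ : N → ℂ}
    (hφ : IsIrrCharacter N φ) :
    ∑ χ : IrrCharacter G, fsNu (χ : G → ℂ) * classInner (fun n : N => (χ : G → ℂ) n) φ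
      = fsNu φ := by
  rw [← classInner_fsTheta hφ]
  have h1 := eq_sum_classInner_smul (fsTheta_isClassFunction (G := G))
  have h2 : (fsTheta : N → ℂ) = ∑ χ : IrrCharacter G,
      fsNu (χ : G → ℂ) • (fun n : N => (χ : G → ℂ) n) := by
    funext n
    rw [← fsTheta_restrict N hodd n]
    conv_lhs => rw [h1]
    rw [Finset.sum_apply, Finset.sum_apply]
    apply Finset.sum_congr rfl
    intro χ _
    rw [Pi.smul_apply, Pi.smul_apply, classInner_fsTheta χ.2]
  rw [h2, Helper20.classInner_sum_left]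
  apply Finset.sum_congr rfl
  intro χ _
  rw [Helper20.classInner_smul_left]

theorem exists_real_over (hodd : Odd N.index) {φ : N → ℂ}
    (hφ : IsIrrCharacter N φ) (hreal : ∀ n : N, (φ n).im = 0) :
    ∃ χ : IrrCharacter G, (∀ g : G, ((χ : G → ℂ) g).im = 0) ∧
      classInner (fun n : N => (χ : G → ℂ) n) φ ≠ 0 := by
  classical
  have := Fintype.ofFinite (IrrCharacter G)
  have h1 := fsNu_sum_restrict N hodd hφ
  have h2 : fsNu φ ≠ 0 := by
    intro h
    obtain ⟨s, hs⟩ := (fsNu_irr hφ).2.mp h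
    exact hs (hreal s)
  rw [← h1] at h2
  obtain ⟨χ, _, hχ⟩ := Finset.exists_ne_zero_of_sum_ne_zero h2
  refine ⟨χ, ?_, right_ne_zero_of_mul hχ⟩
  have h3 : fsNu (χ : G → ℂ) ≠ 0 := left_ne_zero_of_mul hχ
  intro g
  by_contra hg
  exact h3 ((fsNu_irr χ.2).2.mpr ⟨g, hg⟩)

end

end Cfsg.Agent.Lib.Helper83
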