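import Cfsg.Agent.Lib.Helper83.Basic

set_option autoImplicit false

open scoped ComplexConjugate

namespace Cfsg.Agent.Lib.Helper83

universe u v

variable {G : Type u} [Group G] {H : Type v} [Group H]

theorem isChar_comp (f : H →* G) {χ : G → ℂ} (h : IsCharacter G χ) : IsCharacter H (χ ∘ f) := by
  obtain ⟨n, ρ, rfl⟩ := h
  exact ⟨n, ρ.comp f, rfl⟩

theorem irreducible_comp_surjective {V : Type*} [AddCommGroup V] [Module ℂ V]
    (f : H →* G) (hf : Function.Surjective f) (ρ : Representation ℂ G V) (h : ρ.IsIrreducible) :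
    Representation.IsIrreducible (ρ.comp f) := by
  have hnt : Nontrivial (Subrepresentation (ρ.comp f)) := by
    refine ⟨⊥, ⊤, fun hbt => ?_⟩
    have h1 : (⊥ : Submodule ℂ V) = ⊤ := congrArg Subrepresentation.toSubmodule hbt
    have h2 : (⊥ : Subrepresentation ρ) = ⊤ := Subrepresentation.toSubmodule_injective h1
    exact bot_ne_top h2
  refine { toNontrivial := hnt, eq_bot_or_eq_top := fun a => ?_ }
  let a' : Subrepresentation ρ :=
    { toSubmodule := a.toSubmodule
      apply_mem_toSubmodule := fun g v hv => by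
        obtain ⟨x, rfl⟩ := hf g
        exact a.apply_mem_toSubmodule x hv }
  rcases h.eq_bot_or_eq_top a' with h1 | h1
  · left
    have h2 : a'.toSubmodule = ⊥ := congrArg Subrepresentation.toSubmodule h1
    exact Subrepresentation.toSubmodule_injective h2
  · right
    have h2 : a'.toSubmodule = ⊤ := congrArg Subrepresentation.toSubmodule h1
    exact Subrepresentation.toSubmodule_injective h2

theorem isIrr_comp_surjective (f : H →* G) (hf : Function.Surjective f) {χ : G → ℂ}
    (h : IsIrrCharacter G χ) : IsIrrCharacter H (χ ∘ f) := by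
  obtain ⟨n, ρ, hirr, rfl⟩ := h
  exact ⟨n, ρ.comp f, irreducible_comp_surjective f hf ρ hirr, rfl⟩

theorem rep_one_dim_mul (ρ : Representation ℂ G (Fin 1 → ℂ)) (g h : G) :
    ρ.character (g * h) = ρ.character g * ρ.character h := by
  have key : ∀ x, ρ.character x = LinearMap.toMatrix' (ρ x) 0 0 := by
    intro x
    simp only [Representation.character]
    rw [LinearMap.trace_eq_matrix_trace ℂ (Pi.basisFun ℂ (Fin 1))]
    simp [Matrix.trace, LinearMap.toMatrix'_apply]
  rw [key, key, key, map_mul, LinearMap.toMatrix'_mul, Matrix.mul_apply]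
  simp

theorem isIrr_linear_mul {χ : G → ℂ} (h : IsIrrCharacter G χ) (h1 : χ 1 = 1) (g x : G) :
    χ (g * x) = χ g * χ x := by
  obtain ⟨n, ρ, _, rfl⟩ := h
  have : n = 1 := by
    have := h1
    rw [Representation.char_one] at this
    simpa using this
  subst this
  exact rep_one_dim_mul ρ g x

theorem isIrr_one_of_comm [IsMulCommutative G] {χ : G → ℂ} (h : IsIrrCharacter G χ) :
    χ 1 = 1 := by
  obtain ⟨n, ρ, hirr, rfl⟩ := h
  rw [Representation.char_one, Representation.IsIrreducible.finrank_eq_one_of_isMulCommutative ρ]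
  simp

theorem card_irr_le [Finite G] : Nat.card (IrrCharacter G) ≤ Nat.card G := by
  classical
  have := Fintype.ofFinite G
  have := Fintype.ofFinite (IrrCharacter G)
  have h := (irr_linearIndependent (G := G)).fintype_card_le_finrank
  rw [Module.finrank_fintype_fun_eq_card] at h
  rwa [Nat.card_eq_fintype_card, Nat.card_eq_fintype_card]

end Cfsg.Agent.Lib.Helper83
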