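import Cfsg.Agent.S0854

set_option autoImplicit false

namespace Cfsg.Agent.Lib.Helper83

open Cfsg.Agent.Lib.Helper19 Cfsg.Agent.Lib.Helper20 Cfsg.Agent.Lib.Helper5
open scoped ComplexConjugate

/-- Clifford correspondence: induction from the inertia group is irreducible and injective
(even orthogonal) on characters over `ϑ`; also the decomposition of `ϑ^G`. -/
theorem clifford_corr {G : Type*} [Group G] [Fintype G] (H : Subgroup G) [hN : H.Normal]
    (ϑ : H → ℂ) (hϑ : Cfsg.IsIrrCharacter H ϑ) (T : Subgroup G) [Fintype T]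
    [Fintype (IrrCharacter T)]
    (hT : ∀ g : G, g ∈ T ↔ ∀ n : H, ϑ ⟨g * n * g⁻¹, hN.conj_mem (n : G) n.2 g⟩ = ϑ n)
    (hHT : H ≤ T) :
    (∀ ψ : IrrCharacter T, classInner (indFun (H.subgroupOf T)
        (fun x => ϑ ⟨((x : T) : G), Subgroup.mem_subgroupOf.mp x.2⟩)) (ψ : T → ℂ) ≠ 0 →
        IsIrrCharacter G (indFun T (ψ : T → ℂ))) ∧
    (∀ ψ ψ' : IrrCharacter T, classInner (indFun (H.subgroupOf T)
        (fun x => ϑ ⟨((x : T) : G), Subgroup.mem_subgroupOf.mp x.2⟩)) (ψ : T → ℂ) ≠ 0 →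
        classInner (indFun (H.subgroupOf T)
        (fun x => ϑ ⟨((x : T) : G), Subgroup.mem_subgroupOf.mp x.2⟩)) (ψ' : T → ℂ) ≠ 0 →
        ψ' ≠ ψ → classInner (indFun T (ψ : T → ℂ)) (indFun T (ψ' : T → ℂ)) = 0) ∧
    indFun H ϑ = ∑ ψ : IrrCharacter T, classInner (indFun (H.subgroupOf T)
        (fun x => ϑ ⟨((x : T) : G), Subgroup.mem_subgroupOf.mp x.2⟩)) (ψ : T → ℂ) •
          indFun T (ψ : T → ℂ) := by
  classical
  have : Fintype H := Fintype.ofFinite H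
  set H' : Subgroup T := H.subgroupOf T with hH'
  have hH'n : H'.Normal := Subgroup.Normal.subgroupOf hN T
  let e : H' ≃* H := Subgroup.subgroupOfEquivOfLe hHT
  set ϑ' : H' → ℂ := fun x => ϑ ⟨((x : T) : G), Subgroup.mem_subgroupOf.mp x.2⟩ with hϑ'def
  have hϑ'e : ϑ' = ϑ ∘ e := by
    funext x
    rfl
  have hϑ' : IsIrrCharacter H' ϑ' := by
    rw [hϑ'e]; exact isIrrCharacter_comp_equiv e hϑ
  have hinv' : ∀ (t : T) (x : H'), ϑ' ⟨t * x * t⁻¹, hH'n.conj_mem (x : T) x.2 t⟩ = ϑ' x := by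
    intro t x
    exact (hT t).mp t.2 ⟨((x : T) : G), Subgroup.mem_subgroupOf.mp x.2⟩
  have hindc : IsCharacter T (indFun H' ϑ') :=
    isCharacter_indFun H' ϑ' (isCharacter_of_isIrrCharacter hϑ')
  have hf : ∀ ψ : IrrCharacter T, ∃ n : ℕ, classInner (indFun H' ϑ') (ψ : T → ℂ) = n :=
    fun ψ => isCharacter_classInner_nat hindc ψ.2
  choose f hf using hf
  have hexp : indFun H' ϑ' = ∑ ψ : IrrCharacter T, (f ψ : ℂ) • (ψ : T → ℂ) := by
    conv_lhs => rw [eq_sum_classInner_smul (indFun_isClassFunction H' ϑ')]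
    simp only [hf]
  have hexpG : indFun H ϑ = ∑ ψ : IrrCharacter T, (f ψ : ℂ) • indFun T (ψ : T → ℂ) := by
    rw [← indFun_trans H T hHT ϑ]
    show indFun T (indFun H' ϑ') = _
    rw [hexp, indFun_sum]
    simp only [indFun_smul]
  have n1 : ((∑ ψ : IrrCharacter T, (f ψ) ^ 2 : ℕ) : ℂ) = (H'.index : ℂ) := by
    rw [← classInner_indFun_self_of_invariant H' ϑ' hϑ' hinv']
    conv_rhs => rw [hexp, classInner_sum_left]
    push_cast
    apply Finset.sum_congr rfl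
    intro β _
    rw [classInner_smul_left, ← hexp, ← classInner_conj_symm, hf]
    simp [pow_two]
  have hidx : (H'.index : ℂ) = (Nat.card H : ℂ)⁻¹ * (Nat.card T : ℂ) := by
    rw [Cfsg.Agent.Lib.Helper19.index_eq_div H', Nat.card_congr e.toEquiv]
  have hnorm : classInner (∑ ψ : IrrCharacter T, (f ψ : ℂ) • indFun T (ψ : T → ℂ))
      (∑ ψ : IrrCharacter T, (f ψ : ℂ) • indFun T (ψ : T → ℂ))
      = ((∑ ψ : IrrCharacter T, (f ψ) ^ 2 : ℕ) : ℂ) := by
    rw [← hexpG, Cfsg.Agent.S0854.norm_ind H ϑ hϑ T hT, n1, hidx]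
  have hF0 : ∀ ψ : IrrCharacter T, indFun T (ψ : T → ℂ) ≠ 0 := by
    intro ψ h0
    have h1 := congrFun h0 1
    rw [indFun_apply_one, Pi.zero_apply] at h1
    rcases mul_eq_zero.mp h1 with h2 | h2
    · have : T.index ≠ 0 := Subgroup.index_ne_zero_of_finite
      exact this (by exact_mod_cast h2)
    · exact irr_one_ne_zero ψ.2 h2
  obtain ⟨hirr, horth⟩ := irr_of_norm_eq f (fun ψ : IrrCharacter T => indFun T (ψ : T → ℂ))
    (fun ψ => isCharacter_indFun T _ (isCharacter_of_isIrrCharacter ψ.2)) hF0 hnorm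
  have hne : ∀ ψ : IrrCharacter T, classInner (indFun H' ϑ') (ψ : T → ℂ) ≠ 0 → f ψ ≠ 0 := by
    intro ψ h h0
    apply h
    rw [hf, h0]; simp
  refine ⟨fun ψ h => hirr ψ (hne ψ h), fun ψ ψ' h h' hn => horth ψ ψ' (hne ψ h) (hne ψ' h') hn, ?_⟩
  rw [hexpG]
  apply Finset.sum_congr rfl
  intro ψ _
  rw [hf]

end Cfsg.Agent.Lib.Helper83
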