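import Cfsg.Agent.Lib.Helper83.AbQuot
import Cfsg.Agent.Lib.Helper5.IndDeg
import Cfsg.Agent.Lib.Helper82.Codegree
import Cfsg.Agent.Lib.Helper19.DetChar
import Cfsg.Agent.S0867

set_option autoImplicit false

namespace Cfsg.Agent.Lib.Helper83

open Cfsg.Agent.Lib.Helper19 Cfsg.Agent.Lib.Helper20 Cfsg.Agent.Lib.Helper5
open scoped ComplexConjugate

/-- induction from a normal subgroup with abelian inertia quotient -/
theorem ind_abelian_inertia {G : Type*} [Group G] [Fintype G] (H T : Subgroup G) [hN : H.Normal]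
    (θ : H → ℂ) (hθ : Cfsg.IsIrrCharacter H θ)
    (hT : ∀ g : G, g ∈ T ↔ ∀ h : H, θ ⟨g * h * g⁻¹, hN.conj_mem h h.2 g⟩ = θ h)
    (hab : ∀ x ∈ T, ∀ y ∈ T, x * y * x⁻¹ * y⁻¹ ∈ H) :
    ∃ (e : ℕ) (C : Finset (G → ℂ)), 0 < e ∧ (∀ χ ∈ C, Cfsg.IsIrrCharacter G χ) ∧
      e ^ 2 * C.card * Nat.card H = Nat.card T ∧ Cfsg.indFun H θ = (e : ℂ) • ∑ χ ∈ C, χ ∧
      (∀ χ ∈ C, χ 1 = (T.index : ℂ) * e * θ 1) ∧
      ((∃ ψ₀ : T → ℂ, IsIrrCharacter T ψ₀ ∧
        ∀ x : H.subgroupOf T, ψ₀ x = θ ⟨((x : T) : G), Subgroup.mem_subgroupOf.mp x.2⟩) → e = 1) ∧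
      (Nat.Coprime (Nat.card H) (H.relIndex T) → e = 1) := by
  classical
  have : Fintype H := Fintype.ofFinite H
  have : Fintype T := Fintype.ofFinite T
  have := finite_irrCharacter (G := T)
  have := Fintype.ofFinite (IrrCharacter T)
  have hθcl := isClassFunction_of_isCharacter (isCharacter_of_isIrrCharacter hθ)
  have hHT : H ≤ T := by
    intro x hx
    rw [hT]
    intro h
    exact hθcl h ⟨x, hx⟩
  obtain ⟨hirr, horth, hexpG⟩ := clifford_corr H θ hθ T hT hHT
  set H' : Subgroup T := H.subgroupOf T with hH'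
  have hH'n : H'.Normal := Subgroup.Normal.subgroupOf hN T
  have : Fintype H' := Fintype.ofFinite H'
  let eq : H' ≃* H := Subgroup.subgroupOfEquivOfLe hHT
  set θ' : H' → ℂ := fun x => θ ⟨((x : T) : G), Subgroup.mem_subgroupOf.mp x.2⟩ with hθ'def
  have hθ'e : θ' = θ ∘ eq := by
    funext x
    rfl
  have hθ' : IsIrrCharacter H' θ' := by
    rw [hθ'e]; exact isIrrCharacter_comp_equiv eq hθ
  have hinv' : ∀ (t : T) (x : H'), θ' ⟨t * x * t⁻¹, hH'n.conj_mem (x : T) x.2 t⟩ = θ' x := by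
    intro t x
    exact (hT t).mp t.2 ⟨((x : T) : G), Subgroup.mem_subgroupOf.mp x.2⟩
  have hab' : ∀ x y : T, x * y * x⁻¹ * y⁻¹ ∈ H' := by
    intro x y
    exact Subgroup.mem_subgroupOf.mpr (hab x x.2 y y.2)
  have hindc : IsCharacter T (indFun H' θ') :=
    isCharacter_indFun H' θ' (isCharacter_of_isIrrCharacter hθ')
  have hind1 : indFun H' θ' 1 ≠ 0 := by
    rw [indFun_apply_one]
    apply mul_ne_zero
    · have : H'.index ≠ 0 := Subgroup.index_ne_zero_of_finite
      exact_mod_cast this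
    · exact irr_one_ne_zero hθ'
  obtain ⟨ψ₀, hψ₀, hc₀⟩ := exists_constituent hindc hind1
  obtain ⟨e, he⟩ := isCharacter_classInner_nat hindc hψ₀
  have he0 : e ≠ 0 := by
    rintro rfl
    apply hc₀
    rw [he]; simp
  have hunif : ∀ ψ : IrrCharacter T, classInner (indFun H' θ') (ψ : T → ℂ) ≠ 0 →
      classInner (indFun H' θ') (ψ : T → ℂ) = e ∧ (ψ : T → ℂ) 1 = ψ₀ 1 := by
    intro ψ hψ
    have := abelian_quot_uniform H' θ' hθ' hinv' hab' hψ₀ ψ.2 hc₀ hψ
    rw [he] at this
    exact this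
  have hcl₀ := isClassFunction_of_isCharacter (isCharacter_of_isIrrCharacter hψ₀)
  have hce : classInner (fun n : H' => ψ₀ n) θ' = e := by
    rw [← classInner_conj_symm, ← frobenius_reciprocity H' θ' ψ₀ hcl₀, he]
    simp
  have hdeg₀ : ψ₀ 1 = e * θ 1 := by
    have hconst : classInner (fun n : H' => ψ₀ n) θ' ≠ 0 := by
      rw [hce]; exact_mod_cast he0
    have hres := clifford_invariant hH'n hψ₀ hθ' hconst (fun g => funext (fun n => hinv' g n))
    have := congrFun hres 1
    rw [hce] at this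
    exact this
  set C' : Finset (IrrCharacter T) :=
    Finset.univ.filter (fun ψ => classInner (indFun H' θ') (ψ : T → ℂ) ≠ 0) with hC'
  have hinj : Set.InjOn (fun ψ : IrrCharacter T => indFun T (ψ : T → ℂ)) C' := by
    intro ψ hψ ψ' hψ' heq
    have h1 := (Finset.mem_filter.mp hψ).2
    have h2 := (Finset.mem_filter.mp hψ').2
    by_contra hne
    have h3 := horth ψ ψ' h1 h2 (fun h => hne h.symm)
    have heq' : indFun T (ψ : T → ℂ) = indFun T (ψ' : T → ℂ) := heq
    rw [← heq', classInner_irr_self (hirr ψ h1)] at h3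
    exact one_ne_zero h3
  have hext1 : (∃ ψ₀ : T → ℂ, IsIrrCharacter T ψ₀ ∧ ∀ x : H', ψ₀ x = θ' x) → e = 1 := by
    rintro ⟨ψ₁, hψ₁, hext⟩
    have hcl₁ := isClassFunction_of_isCharacter (isCharacter_of_isIrrCharacter hψ₁)
    have h1 : classInner (indFun H' θ') ψ₁ = 1 := by
      rw [frobenius_reciprocity H' θ' ψ₁ hcl₁]
      have : (fun h : H' => ψ₁ h) = θ' := funext hext
      rw [this, classInner_irr_self hθ']
    have h2 := (hunif ⟨ψ₁, hψ₁⟩ (by rw [h1]; exact one_ne_zero)).1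
    have h3 : classInner (indFun H' θ') ψ₁ = e := h2
    rw [h1] at h3
    exact_mod_cast h3.symm
  refine ⟨e, C'.image (fun ψ : IrrCharacter T => indFun T (ψ : T → ℂ)),
    Nat.pos_of_ne_zero he0, ?_, ?_, ?_, ?_, hext1, ?_⟩
  · intro χ hχ
    obtain ⟨ψ, hψ, rfl⟩ := Finset.mem_image.mp hχ
    exact hirr ψ (Finset.mem_filter.mp hψ).2
  · rw [Finset.card_image_of_injOn hinj]
    have h1 : ((e ^ 2 * C'.card : ℕ) : ℂ) = (H'.index : ℂ) := by
      rw [← classInner_indFun_self_of_invariant H' θ' hθ' hinv']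
      have hX := eq_sum_classInner_smul (indFun_isClassFunction H' θ')
      have hY : classInner (indFun H' θ') (indFun H' θ') = ∑ ψ : IrrCharacter T,
          classInner (indFun H' θ') (ψ : T → ℂ) * conj (classInner (indFun H' θ') (ψ : T → ℂ)) := by
        conv_lhs => arg 1; rw [hX]
        rw [Helper20.classInner_sum_left]
        apply Finset.sum_congr rfl
        intro ψ _
        rw [Helper20.classInner_smul_left, classInner_conj_symm]
      rw [hY]
      have hZ : ∑ ψ : IrrCharacter T,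
          classInner (indFun H' θ') (ψ : T → ℂ) * conj (classInner (indFun H' θ') (ψ : T → ℂ))
          = ∑ ψ ∈ C', classInner (indFun H' θ') (ψ : T → ℂ) *
            conj (classInner (indFun H' θ') (ψ : T → ℂ)) :=
        (Finset.sum_filter_of_ne (fun ψ _ hne => left_ne_zero_of_mul hne)).symm
      rw [hZ, Finset.sum_congr rfl (g := fun _ => ((e : ℂ) ^ 2))]
      · rw [Finset.sum_const, nsmul_eq_mul]
        push_cast
        ring
      · intro ψ hψ
        rw [(hunif ψ (Finset.mem_filter.mp hψ).2).1]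
        simp [pow_two]
    have h2 : e ^ 2 * C'.card = H'.index := by exact_mod_cast h1
    rw [h2, ← Nat.card_congr eq.toEquiv]
    exact Subgroup.index_mul_card H'
  · rw [hexpG, Finset.sum_image hinj, Finset.smul_sum]
    have hZ : ∑ ψ : IrrCharacter T, classInner (indFun H' θ') (ψ : T → ℂ) • indFun T (ψ : T → ℂ)
        = ∑ ψ ∈ C', classInner (indFun H' θ') (ψ : T → ℂ) • indFun T (ψ : T → ℂ) :=
      (Finset.sum_filter_of_ne (p := fun ψ : IrrCharacter T =>
        classInner (indFun H' θ') (ψ : T → ℂ) ≠ 0)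
        (fun ψ _ hne => fun h0 => hne (by rw [h0, zero_smul]))).symm
    rw [hZ]
    apply Finset.sum_congr rfl
    intro ψ hψ
    rw [(hunif ψ (Finset.mem_filter.mp hψ).2).1]
  · intro χ hχ
    obtain ⟨ψ, hψ, rfl⟩ := Finset.mem_image.mp hχ
    rw [indFun_apply_one, (hunif ψ (Finset.mem_filter.mp hψ).2).2, hdeg₀, mul_assoc]
  · intro hcop
    apply hext1
    have hcard' : Nat.card H' = Nat.card H := Nat.card_congr eq.toEquiv
    have hd : θ' 1 = (charDegree θ' : ℂ) :=
      Cfsg.Agent.Lib.Helper82.isChar_one_eq (isCharacter_of_isIrrCharacter hθ')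
    have hd2 : charDegree θ' ∣ Nat.card H' := Cfsg.Agent.Lib.Helper82.isIrr_charDegree_dvd_card hθ'
    have hd3 : detOrder θ' ∣ Nat.card H' := by
      obtain ⟨f, hf⟩ := exists_detChar_hom (isCharacter_of_isIrrCharacter hθ')
      unfold detOrder
      rw [hf, orderOf_homFun]
      apply orderOf_dvd_of_pow_eq_one
      ext x
      rw [MonoidHom.pow_apply, ← map_pow, pow_card_eq_one', map_one, MonoidHom.one_apply]
    have hcop' : Nat.Coprime H'.index (detOrder θ' * charDegree θ') := by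
      have h1 : Nat.Coprime H'.index (Nat.card H') := by
        rw [hcard']
        exact hcop.symm
      exact Nat.Coprime.mul_right (Nat.Coprime.coprime_dvd_right hd3 h1)
        (Nat.Coprime.coprime_dvd_right hd2 h1)
    obtain ⟨χ, ⟨hχ, hχr, -⟩, -⟩ := Cfsg.Agent.S0867.result H' θ' hθ' hinv' _ hd hcop'
    exact ⟨χ, hχ, hχr⟩

end Cfsg.Agent.Lib.Helper83
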