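import Cfsg.Agent.Lib.Helper83.CliffCorr
import Cfsg.Agent.Lib.Helper83.Basic2
import Cfsg.Agent.Lib.Helper5.Inertia
import Cfsg.Agent.Lib.Helper19.NormalKer
import Cfsg.Agent.Lib.Helper82.CharKer
import Cfsg.Agent.Lib.Helper82.Linear

set_option autoImplicit false

namespace Cfsg.Agent.Lib.Helper83

open Cfsg.Agent.Lib.Helper19 Cfsg.Agent.Lib.Helper20 Cfsg.Agent.Lib.Helper5
open scoped ComplexConjugate

/-- an irreducible constituent of `(1_M)^K` has `M` in its kernel -/
theorem ker_of_constituent_ind_one {K : Type*} [Group K] [Fintype K] (M : Subgroup K)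
    [hM : M.Normal] {lam : K → ℂ} (hl : IsIrrCharacter K lam)
    (hc : classInner (indFun M (fun _ => (1 : ℂ))) lam ≠ 0) : ∀ m ∈ M, lam m = lam 1 := by
  classical
  have : Fintype M := Fintype.ofFinite M
  rcases irr_ker_or_sum_zero M hl with h | h
  · exact h
  · exfalso
    apply hc
    rw [frobenius_reciprocity M _ lam
      (isClassFunction_of_isCharacter (isCharacter_of_isIrrCharacter hl))]
    unfold classInner
    have h1 := h 1
    simp only [mul_one] at h1
    simp only [one_mul]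
    rw [← map_sum, h1, map_zero, mul_zero]

/-- an irreducible character with `M` in its kernel, `K/M` abelian, is linear -/
theorem linear_of_ker_of_comm {K : Type*} [Group K] [Finite K] (M : Subgroup K)
    [hM : M.Normal] (hab : ∀ x y : K, x * y * x⁻¹ * y⁻¹ ∈ M) {lam : K → ℂ}
    (hl : IsIrrCharacter K lam) (hk : ∀ m ∈ M, lam m = lam 1) : lam 1 = 1 := by
  obtain ⟨ψ, hψ, hψl⟩ := Cfsg.Agent.Lib.Helper82.isIrr_deflate hl M hk
  have : IsMulCommutative (K ⧸ M) := ⟨⟨by
    intro a b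
    obtain ⟨x, rfl⟩ := QuotientGroup.mk_surjective a
    obtain ⟨y, rfl⟩ := QuotientGroup.mk_surjective b
    rw [← QuotientGroup.mk_mul, ← QuotientGroup.mk_mul, QuotientGroup.eq]
    have h := hab y⁻¹ x⁻¹
    have e : (x * y)⁻¹ * (y * x) = y⁻¹ * x⁻¹ * y⁻¹⁻¹ * x⁻¹⁻¹ := by group
    rw [e]
    exact h⟩⟩
  have h1 := isIrr_one_of_comm hψ
  rw [← hψl 1]
  exact h1

/-- `K/M` abelian and `θ` invariant: any two members of `Irr(K|θ)` differ by a linear character
of `K/M`. -/
theorem abelian_quot_transitive {K : Type*} [Group K] [Fintype K] (M : Subgroup K) [hM : M.Normal]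
    (θ : M → ℂ) (hθ : IsIrrCharacter M θ)
    (hinv : ∀ (g : K) (n : M), θ ⟨g * n * g⁻¹, hM.conj_mem (n : K) n.2 g⟩ = θ n)
    (hab : ∀ x y : K, x * y * x⁻¹ * y⁻¹ ∈ M)
    {ψ₀ ψ : K → ℂ} (h₀ : IsIrrCharacter K ψ₀) (h : IsIrrCharacter K ψ)
    (hc₀ : classInner (indFun M θ) ψ₀ ≠ 0) (hc : classInner (indFun M θ) ψ ≠ 0) :
    ∃ lam : K → ℂ, IsCharacter K lam ∧ lam 1 = 1 ∧ (∀ m ∈ M, lam m = 1) ∧ ψ = lam * ψ₀ := by
  classical
  have : Fintype M := Fintype.ofFinite M
  have := finite_irrCharacter (G := K)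
  have := Fintype.ofFinite (IrrCharacter K)
  have hcl₀ := isClassFunction_of_isCharacter (isCharacter_of_isIrrCharacter h₀)
  have hconst : classInner (fun n : M => ψ₀ n) θ ≠ 0 := by
    rw [frobenius_reciprocity M θ ψ₀ hcl₀, ← classInner_conj_symm] at hc₀
    exact fun h => hc₀ (by rw [h, map_zero])
  have hres := clifford_invariant hM h₀ hθ hconst (fun g => funext (fun n => hinv g n))
  set c := classInner (fun n : M => ψ₀ n) θ with hcdef
  have h2 : indFun M (fun _ => (1 : ℂ)) * ψ₀ = c • indFun M θ := by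
    rw [← indFun_mul_restrict M _ ψ₀ hcl₀, ← indFun_smul, ← hres]
    congr 1
    funext n
    simp
  have h3 : classInner (indFun M (fun _ => (1 : ℂ)) * ψ₀) ψ ≠ 0 := by
    rw [h2, Helper20.classInner_smul_left]
    exact mul_ne_zero hconst hc
  have h4 : indFun M (fun _ => (1 : ℂ)) * ψ₀ = ∑ lam : IrrCharacter K,
      classInner (indFun M (fun _ => (1 : ℂ))) (lam : K → ℂ) • ((lam : K → ℂ) * ψ₀) := by
    conv_lhs => rw [eq_sum_classInner_smul (indFun_isClassFunction M (fun _ => (1 : ℂ)))]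
    rw [Finset.sum_mul]
    apply Finset.sum_congr rfl
    intro lam _
    rw [smul_mul_assoc]
  rw [h4, Helper20.classInner_sum_left] at h3
  obtain ⟨lam, _, hlam⟩ := Finset.exists_ne_zero_of_sum_ne_zero h3
  rw [Helper20.classInner_smul_left] at hlam
  have hk := ker_of_constituent_ind_one M lam.2 (left_ne_zero_of_mul hlam)
  have h1 := linear_of_ker_of_comm M hab lam.2 hk
  have hlc := isCharacter_of_isIrrCharacter lam.2
  refine ⟨lam, hlc, h1, fun m hm => by rw [hk m hm, h1], ?_⟩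
  by_contra hne
  exact right_ne_zero_of_mul hlam
    (classInner_irr_ne (Cfsg.Agent.Lib.Helper82.isIrr_linear_mul hlc h1 h₀) h (fun h => hne h.symm))

/-- uniform multiplicity -/
theorem abelian_quot_uniform {K : Type*} [Group K] [Fintype K] (M : Subgroup K) [hM : M.Normal]
    (θ : M → ℂ) (hθ : IsIrrCharacter M θ)
    (hinv : ∀ (g : K) (n : M), θ ⟨g * n * g⁻¹, hM.conj_mem (n : K) n.2 g⟩ = θ n)
    (hab : ∀ x y : K, x * y * x⁻¹ * y⁻¹ ∈ M)
    {ψ₀ ψ : K → ℂ} (h₀ : IsIrrCharacter K ψ₀) (h : IsIrrCharacter K ψ)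
    (hc₀ : classInner (indFun M θ) ψ₀ ≠ 0) (hc : classInner (indFun M θ) ψ ≠ 0) :
    classInner (indFun M θ) ψ = classInner (indFun M θ) ψ₀ ∧ ψ 1 = ψ₀ 1 := by
  classical
  have : Fintype M := Fintype.ofFinite M
  obtain ⟨lam, _, h1, hk, rfl⟩ := abelian_quot_transitive M θ hθ hinv hab h₀ h hc₀ hc
  constructor
  · rw [frobenius_reciprocity M θ _ (isClassFunction_of_isCharacter (isCharacter_of_isIrrCharacter h)),
      frobenius_reciprocity M θ _ (isClassFunction_of_isCharacter (isCharacter_of_isIrrCharacter h₀))]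
    congr 1
    funext n
    rw [Pi.mul_apply, hk n n.2, one_mul]
  · rw [Pi.mul_apply, h1, one_mul]

end Cfsg.Agent.Lib.Helper83
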