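import Mathlib
import Cfsg.Prelude.Def_Local
import Cfsg.Prelude.Def_Blocks

/-!
# Abelian Sylow subgroups whose normalizer acts freely

Group theory behind Brauer's "applications of the theory of blocks": for an abelian Sylow
`p`-subgroup `P` and `y ∈ P` with `C_G(y) ∩ N_G(P) = C_G(P)`, the centralizer `C_G(y)` has a normal
`p`-complement (Burnside), so `p`-regular elements of `C_G(y)` lie in `O_{p'}(C_G(y))`.
-/

set_option autoImplicit false
open Cfsg

namespace Cfsg.Agent.Lib.Helper83

section

variable {G : Type*} [Group G] [Finite G] {p : ℕ} [Fact p.Prime]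

theorem sylow_le_centralizer_singleton (P : Sylow p G) [IsMulCommutative P] {y : G}
    (hy : y ∈ (P : Subgroup G)) : (P : Subgroup G) ≤ Subgroup.centralizer ({y} : Set G) := by
  intro x hx
  rw [Subgroup.mem_centralizer_iff]
  intro v hv
  rw [Set.mem_singleton_iff] at hv
  subst hv
  have := (inferInstance : IsMulCommutative P).is_comm.comm (⟨v, hy⟩ : (P : Subgroup G)) ⟨x, hx⟩
  exact congrArg Subtype.val this

/-- Burnside: a normal `p`-complement of `C_G(y)`. -/
theorem exists_normal_compl_centralizer (P : Sylow p G) [IsMulCommutative P] {y : G}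
    (hy : y ∈ (P : Subgroup G))
    (hfrob : Subgroup.centralizer ({y} : Set G) ⊓ Subgroup.normalizer ((P : Subgroup G) : Set G)
      = Subgroup.centralizer ((P : Subgroup G) : Set G)) :
    ∃ K : Subgroup (Subgroup.centralizer ({y} : Set G)), K.Normal ∧ (Nat.card K).Coprime p ∧
      K.index = Nat.card P := by
  have hPH := sylow_le_centralizer_singleton P hy
  set H := Subgroup.centralizer ({y} : Set G) with hH
  let P' : Sylow p H := P.subtype hPH
  have hP'mem : ∀ x : H, x ∈ (P' : Subgroup H) ↔ (x : G) ∈ (P : Subgroup G) := by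
    intro x
    rw [Sylow.coe_subtype, Subgroup.mem_subgroupOf]
  have hN : Subgroup.normalizer ((P' : Subgroup H) : Set H)
      ≤ Subgroup.centralizer ((P' : Subgroup H) : Set H) := by
    intro h hh
    rw [Subgroup.mem_normalizer_iff] at hh
    have h1 : (h : G) ∈ Subgroup.normalizer ((P : Subgroup G) : Set G) := by
      rw [Subgroup.mem_normalizer_iff]
      intro g
      constructor
      · intro hg
        have := (hh ⟨g, hPH hg⟩).1 ((hP'mem _).2 hg)
        exact (hP'mem _).1 this
      · intro hg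
        have hgH : g ∈ H := by
          have h2 : (h : G)⁻¹ * ((h : G) * g * (h : G)⁻¹) * (h : G) ∈ H :=
            H.mul_mem (H.mul_mem (H.inv_mem h.2) (hPH hg)) h.2
          have h3 : (h : G)⁻¹ * ((h : G) * g * (h : G)⁻¹) * (h : G) = g := by group
          rwa [h3] at h2
        have := (hh ⟨g, hgH⟩).2 ((hP'mem _).2 hg)
        exact (hP'mem _).1 this
    have h2 : (h : G) ∈ Subgroup.centralizer ((P : Subgroup G) : Set G) := by
      rw [← hfrob]; exact ⟨h.2, h1⟩
    rw [Subgroup.mem_centralizer_iff]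
    intro x hx
    apply Subtype.ext
    exact Subgroup.mem_centralizer_iff.1 h2 (x : G) ((hP'mem x).1 hx)
  refine ⟨(MonoidHom.transferSylow P' hN).ker, inferInstance, ?_, ?_⟩
  · exact (Nat.Coprime.symm ((Nat.Prime.coprime_iff_not_dvd Fact.out).2
      (MonoidHom.not_dvd_card_ker_transferSylow P' hN)))
  · rw [(MonoidHom.ker_transferSylow_isComplement' P' hN).symm.index_eq_card]
    exact Nat.card_congr (Subgroup.subgroupOfEquivOfLe hPH).toEquiv

theorem pPrimeCore_index_centralizer (P : Sylow p G) [IsMulCommutative P] {y : G}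
    (hy : y ∈ (P : Subgroup G))
    (hfrob : Subgroup.centralizer ({y} : Set G) ⊓ Subgroup.normalizer ((P : Subgroup G) : Set G)
      = Subgroup.centralizer ((P : Subgroup G) : Set G)) :
    ∃ k : ℕ, (pPrimeCore p (Subgroup.centralizer ({y} : Set G))).index = p ^ k := by
  obtain ⟨K, hK, hcop, hidx⟩ := exists_normal_compl_centralizer P hy hfrob
  have hle : K ≤ pPrimeCore p (Subgroup.centralizer ({y} : Set G)) := le_sSup ⟨hK, hcop⟩
  have hdvd := Subgroup.index_dvd_of_le hle
  rw [hidx, P.card_eq_multiplicity] at hdvd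
  obtain ⟨k, -, hk⟩ := (Nat.dvd_prime_pow Fact.out).1 hdvd
  exact ⟨k, hk⟩

/-- `p`-regular elements of `C_G(y)` lie in `O_{p'}(C_G(y))`. -/
theorem mem_centralizerPPrimeCore_of_regular (P : Sylow p G) [IsMulCommutative P] {y : G}
    (hy : y ∈ (P : Subgroup G))
    (hfrob : Subgroup.centralizer ({y} : Set G) ⊓ Subgroup.normalizer ((P : Subgroup G) : Set G)
      = Subgroup.centralizer ((P : Subgroup G) : Set G))
    {v : G} (hv : Commute y v) (hreg : ¬ p ∣ orderOf v) : v ∈ centralizerPPrimeCore p y := by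
  obtain ⟨K, hK, hcop, hidx⟩ := exists_normal_compl_centralizer P hy hfrob
  have hle : K ≤ pPrimeCore p (Subgroup.centralizer ({y} : Set G)) := le_sSup ⟨hK, hcop⟩
  have hvH : v ∈ Subgroup.centralizer ({y} : Set G) := by
    rw [Subgroup.mem_centralizer_iff]
    intro w hw
    rw [Set.mem_singleton_iff] at hw
    subst hw
    exact hv
  refine ⟨⟨v, hvH⟩, hle ?_, rfl⟩
  rw [← QuotientGroup.eq_one_iff]
  rw [← orderOf_eq_one_iff]
  have h1 : orderOf ((⟨v, hvH⟩ : Subgroup.centralizer ({y} : Set G)) :
      Subgroup.centralizer ({y} : Set G) ⧸ K) ∣ orderOf v := by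
    have := orderOf_map_dvd (QuotientGroup.mk' K) (⟨v, hvH⟩ : Subgroup.centralizer ({y} : Set G))
    rwa [← Subgroup.orderOf_coe] at this
  have h2 : orderOf ((⟨v, hvH⟩ : Subgroup.centralizer ({y} : Set G)) :
      Subgroup.centralizer ({y} : Set G) ⧸ K) ∣ p ^ (Nat.card G).factorization p := by
    rw [← P.card_eq_multiplicity, ← hidx, Subgroup.index_eq_card]
    exact orderOf_dvd_natCard _
  have h3 : Nat.Coprime (orderOf v) (p ^ (Nat.card G).factorization p) :=
    Nat.Coprime.pow_right _ (Nat.Coprime.symm ((Nat.Prime.coprime_iff_not_dvd Fact.out).2 hreg))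
  exact Nat.eq_one_of_dvd_coprimes h3 h1 h2

/-- Burnside fusion in the shape used by the block column identities. -/
theorem abelian_sylow_fusion (P : Sylow p G) [IsMulCommutative P] {u : G}
    (hu : u ∈ (P : Subgroup G)) (g : G) (hg : g * u * g⁻¹ ∈ (P : Subgroup G)) :
    ∃ n ∈ Subgroup.normalizer ((P : Subgroup G) : Set G), n * u * n⁻¹ = g * u * g⁻¹ := by
  obtain ⟨n, hn, h⟩ := P.conj_eq_normalizer_conj_of_mem u g⁻¹ hu (by rw [inv_inv]; exact hg)
  refine ⟨n⁻¹, Subgroup.inv_mem _ hn, ?_⟩
  rw [inv_inv] at h ⊢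
  exact h.symm

end

end Cfsg.Agent.Lib.Helper83
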