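import Cfsg.Agent.S0198
import Cfsg.Agent.Lib.Helper32.GenChar

/-!
# Abstract core of the exceptional-character argument

A family `k q` (`q : Q`, `|Q| ≥ 2`) of integral vectors indexed by `Irr(G)` with Gram matrix
`m + δ` and vanishing at `1` has the shape
`k q = a + d ∑_j μ_j - ε μ_q` for distinct irreducible characters `μ_q`, a sign `ε` and an integer `d`.
-/

set_option autoImplicit false
set_option linter.unusedSectionVars false
open Cfsg
open scoped ComplexConjugate

namespace Cfsg.Agent.Lib.Helper83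

open Cfsg.Agent.Lib.Helper20 Cfsg.Agent.Lib.Helper32

section

variable {G : Type*} [Group G] [Fintype G] [Fintype (IrrCharacter G)]

/-- integral combination of the irreducible characters -/
noncomputable def zcomb (k : IrrCharacter G → ℤ) : G → ℂ :=
  ∑ χ : IrrCharacter G, (k χ : ℂ) • (χ : G → ℂ)

theorem zcomb_apply (k : IrrCharacter G → ℤ) (g : G) :
    zcomb k g = ∑ χ : IrrCharacter G, (k χ : ℂ) * (χ : G → ℂ) g := by
  simp [zcomb, Finset.sum_apply]

theorem zcomb_genChar (k : IrrCharacter G → ℤ) : IsGeneralizedCharacter G (zcomb k) :=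
  genChar_sum _ _ (fun χ _ => genChar_intCast_smul (genChar_of_irr χ.2) _)

theorem zcomb_inner_irr (k : IrrCharacter G → ℤ) (χ : IrrCharacter G) :
    classInner (zcomb k) (χ : G → ℂ) = k χ := by
  classical
  rw [zcomb, classInner_sum_left, Finset.sum_eq_single χ]
  · rw [classInner_smul_left, classInner_irr_self χ.2, mul_one]
  · intro ψ _ hψ
    rw [classInner_smul_left, classInner_irr_ne ψ.2 χ.2 (fun h => hψ (Subtype.ext h)), mul_zero]
  · intro h; exact absurd (Finset.mem_univ _) h

theorem zcomb_inner (k k' : IrrCharacter G → ℤ) :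
    classInner (zcomb k) (zcomb k') = ((∑ χ : IrrCharacter G, k χ * k' χ : ℤ) : ℂ) := by
  conv_lhs => rhs; rw [zcomb]
  rw [classInner_sum_right]
  push_cast
  apply Finset.sum_congr rfl
  intro χ _
  rw [classInner_smul_right, zcomb_inner_irr]
  simp [mul_comm]

theorem zcomb_sub (k k' : IrrCharacter G → ℤ) :
    zcomb (fun χ => k χ - k' χ) = zcomb k - zcomb k' := by
  ext g
  simp only [zcomb_apply, Pi.sub_apply, ← Finset.sum_sub_distrib]
  apply Finset.sum_congr rfl
  intro χ _
  push_cast; ring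

theorem coherence_core [DecidableEq (IrrCharacter G)] {Q : Type*} [Fintype Q] [DecidableEq Q]
    (hQ : 2 ≤ Fintype.card Q) (m : ℤ) (k : Q → IrrCharacter G → ℤ)
    (hgram : ∀ q q', ∑ χ : IrrCharacter G, k q χ * k q' χ = m + if q = q' then 1 else 0)
    (hone : ∀ q, zcomb (k q) 1 = 0) :
    ∃ (ε d : ℤ) (μ : Q → IrrCharacter G), (ε = 1 ∨ ε = -1) ∧ Function.Injective μ ∧
      (∀ q j, k q (μ j) = d - if q = j then ε else 0) ∧
      (∀ χ, (∀ j, χ ≠ μ j) → ∀ q q', k q χ = k q' χ) := by
  classical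
  have hne : Nonempty Q := by
    rw [← Fintype.card_pos_iff]; omega
  obtain ⟨q₀⟩ := hne
  let e : Q ≃ Fin (Fintype.card Q) := Fintype.equivFin Q
  let τ : Fin (Fintype.card Q) → (G → ℂ) := fun i => zcomb (fun χ => k q₀ χ - k (e.symm i) χ)
  have h0 : τ (e q₀) = 0 := by
    show zcomb (fun χ => k q₀ χ - k (e.symm (e q₀)) χ) = 0
    rw [Equiv.symm_apply_apply]
    ext g
    simp [zcomb_apply]
  have hgen : ∀ i, IsGeneralizedCharacter G (τ i) := fun i => zcomb_genChar _
  have hone' : ∀ i, τ i 1 = 0 := by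
    intro i
    show zcomb (fun χ => k q₀ χ - k (e.symm i) χ) 1 = 0
    rw [zcomb_sub, Pi.sub_apply, hone, hone, sub_zero]
  have hexp : ∀ a b c d' : Q, ∑ χ : IrrCharacter G, (k a χ - k b χ) * (k c χ - k d' χ)
      = (if a = c then 1 else 0) - (if a = d' then 1 else 0) - (if b = c then 1 else 0)
        + (if b = d' then 1 else 0) := by
    intro a b c d'
    have : ∀ χ : IrrCharacter G, (k a χ - k b χ) * (k c χ - k d' χ)
        = k a χ * k c χ - k a χ * k d' χ - k b χ * k c χ + k b χ * k d' χ := by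
      intro χ; ring
    simp only [this, Finset.sum_add_distrib, Finset.sum_sub_distrib, hgram]
    ring
  have hgram' : ∀ i j, i ≠ e q₀ → j ≠ e q₀ → classInner (τ i) (τ j) = if i = j then 2 else 1 := by
    intro i j hi hj
    show classInner (zcomb _) (zcomb _) = _
    rw [zcomb_inner, hexp]
    have h1 : q₀ ≠ e.symm j := fun h => hj (by rw [h, Equiv.apply_symm_apply])
    have h2 : e.symm i ≠ q₀ := fun h => hi (by rw [← h, Equiv.apply_symm_apply])
    rw [if_pos rfl, if_neg h1, if_neg h2]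
    by_cases hij : i = j
    · subst hij; simp
    · rw [if_neg hij, if_neg (fun h => hij (e.symm.injective h))]; simp
  obtain ⟨ε, hε, μ, hμ, hinj, hτ⟩ := Cfsg.Agent.S0198.result _ (e q₀) τ h0 hgen hone' hgram'
  obtain ⟨εz, hεz, hεc⟩ : ∃ εz : ℤ, (εz = 1 ∨ εz = -1) ∧ (εz : ℂ) = ε := by
    rcases hε with h | h
    · exact ⟨1, Or.inl rfl, by simp [h]⟩
    · exact ⟨-1, Or.inr rfl, by simp [h]⟩
  let μ' : Q → IrrCharacter G := fun q => ⟨μ (e q), hμ _⟩
  have hinj' : Function.Injective μ' := by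
    intro a b hab
    exact e.injective (hinj (congrArg Subtype.val hab))
  -- coefficient comparison
  have hstar : ∀ q χ, k q₀ χ - k q χ
      = εz * ((if χ = μ' q then 1 else 0) - (if χ = μ' q₀ then 1 else 0)) := by
    intro q χ
    have h1 : classInner (τ (e q)) (χ : G → ℂ) = ((k q₀ χ - k q χ : ℤ) : ℂ) := by
      show classInner (zcomb (fun χ => k q₀ χ - k (e.symm (e q)) χ)) _ = _
      rw [zcomb_inner_irr, Equiv.symm_apply_apply]
    have h2 : classInner (τ (e q)) (χ : G → ℂ)
        = ε * ((if χ = μ' q then 1 else 0) - (if χ = μ' q₀ then 1 else 0)) := by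
      rw [hτ, classInner_smul_left, classInner_sub_left, classInner_irr (hμ _) χ.2,
        classInner_irr (hμ _) χ.2]
      have e1 : (μ (e q) = (χ : G → ℂ)) ↔ χ = μ' q :=
        ⟨fun h => Subtype.ext h.symm, fun h => (congrArg Subtype.val h).symm⟩
      have e2 : (μ (e q₀) = (χ : G → ℂ)) ↔ χ = μ' q₀ :=
        ⟨fun h => Subtype.ext h.symm, fun h => (congrArg Subtype.val h).symm⟩
      simp only [e1, e2]
    rw [h1, ← hεc] at h2
    have h3 : (((k q₀ χ - k q χ : ℤ)) : ℂ)
        = ((εz * ((if χ = μ' q then 1 else 0) - (if χ = μ' q₀ then 1 else 0)) : ℤ) : ℂ) := by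
      rw [h2]; push_cast
      congr 1
    exact_mod_cast h3
  have hεsq : εz * εz = 1 := by rcases hεz with h | h <;> rw [h] <;> norm_num
  -- values of `k q₀` on the exceptional characters
  have hss : ∀ j, k q₀ (μ' j) - k q₀ (μ' q₀) = εz * (1 - if q₀ = j then 1 else 0) := by
    intro j
    have h1 := hexp q₀ q₀ q₀ j
    -- not useful directly; use gram of k q₀ with k q₀ - k j
    have h2 : ∑ χ : IrrCharacter G, k q₀ χ * (k q₀ χ - k j χ) = 1 - if q₀ = j then 1 else 0 := by
      have : ∀ χ : IrrCharacter G, k q₀ χ * (k q₀ χ - k j χ)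
          = k q₀ χ * k q₀ χ - k q₀ χ * k j χ := by intro χ; ring
      simp only [this, Finset.sum_sub_distrib, hgram, if_pos]
      ring
    have h3 : ∑ χ : IrrCharacter G, k q₀ χ * (k q₀ χ - k j χ)
        = εz * (k q₀ (μ' j) - k q₀ (μ' q₀)) := by
      simp only [hstar]
      have : ∀ χ : IrrCharacter G,
          k q₀ χ * (εz * ((if χ = μ' j then 1 else 0) - (if χ = μ' q₀ then 1 else 0)))
          = εz * ((if χ = μ' j then k q₀ χ else 0) - (if χ = μ' q₀ then k q₀ χ else 0)) := by
        intro χ; split_ifs <;> ring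
      simp only [this, ← Finset.mul_sum, Finset.sum_sub_distrib, Finset.sum_ite_eq',
        Finset.mem_univ, if_true]
    have h4 : εz * (εz * (k q₀ (μ' j) - k q₀ (μ' q₀))) = εz * (1 - if q₀ = j then 1 else 0) := by
      rw [← h3, h2]
    rw [← mul_assoc, hεsq, one_mul] at h4
    exact h4
  refine ⟨εz, k q₀ (μ' q₀) + εz, μ', hεz, hinj', ?_, ?_⟩
  · intro q j
    have h1 := hstar q (μ' j)
    have h2 := hss j
    have e1 : (μ' j = μ' q) ↔ q = j := ⟨fun h => (hinj' h).symm, fun h => by rw [h]⟩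
    have e2 : (μ' j = μ' q₀) ↔ q₀ = j := ⟨fun h => (hinj' h).symm, fun h => by rw [h]⟩
    simp only [e1, e2] at h1
    by_cases hq : q = j <;> by_cases hq0 : q₀ = j <;> simp only [hq, hq0, if_true, if_false] at h1 h2 ⊢ <;>
      linarith
  · intro χ hχ q q'
    have h1 := hstar q χ
    have h2 := hstar q' χ
    rw [if_neg (hχ _), if_neg (hχ _)] at h1 h2
    linarith

end

end Cfsg.Agent.Lib.Helper83
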