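import Mathlib
import Cfsg.Agent.Lib.Helper46.SL2CharDual

/-!
# The action of `N_G(P)` on the dual group of an abelian subgroup `P`
-/

set_option autoImplicit false
set_option linter.unusedSectionVars false
open scoped ComplexConjugate

namespace Cfsg.Agent.Lib.Helper83

open Cfsg.Agent.Lib.Helper46

section

variable {G : Type*} [Group G] (P : Subgroup G)

/-- `(n ⋆ ψ)(w) = ψ(n⁻¹ w n)`. -/
noncomputable def dsmul (n : Subgroup.normalizer (P : Set G)) (ψ : P →* ℂˣ) : P →* ℂˣ :=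
  ψ.comp (MulDistribMulAction.toMonoidHom P n⁻¹)

theorem dsmul_apply (n : Subgroup.normalizer (P : Set G)) (ψ : P →* ℂˣ) (w : P) :
    dsmul P n ψ w = ψ (n⁻¹ • w) := rfl

theorem dsmul_apply_smul (n : Subgroup.normalizer (P : Set G)) (ψ : P →* ℂˣ) (w : P) :
    dsmul P n ψ (n • w) = ψ w := by
  rw [dsmul_apply, inv_smul_smul]

/-- The action of the normalizer on the dual group. -/
noncomputable def dualAct : MulAction (Subgroup.normalizer (P : Set G)) (P →* ℂˣ) where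
  smul := dsmul P
  one_smul ψ := by
    apply MonoidHom.ext; intro w
    show dsmul P 1 ψ w = ψ w
    rw [dsmul_apply, inv_one, one_smul]
  mul_smul a b ψ := by
    apply MonoidHom.ext; intro w
    show dsmul P (a * b) ψ w = dsmul P a (dsmul P b ψ) w
    rw [dsmul_apply, dsmul_apply, dsmul_apply, mul_inv_rev, mul_smul]

/-- The relation used in the statements. -/
def dualRel (ψ ψ' : P →* ℂˣ) : Prop :=
  ∃ n : G, n ∈ Subgroup.normalizer (P : Set G) ∧
    ∀ w w' : P, (w' : G) = n * w * n⁻¹ → ψ' w' = ψ w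

theorem dualRel_iff (ψ ψ' : P →* ℂˣ) :
    dualRel P ψ ψ' ↔ ∃ n : Subgroup.normalizer (P : Set G), dsmul P n ψ = ψ' := by
  constructor
  · rintro ⟨n, hn, h⟩
    refine ⟨⟨n, hn⟩, ?_⟩
    apply MonoidHom.ext; intro w
    rw [dsmul_apply]
    symm
    apply h
    show (w : G) = n * (n⁻¹ * (w : G) * n⁻¹⁻¹) * n⁻¹
    group
  · rintro ⟨n, rfl⟩
    refine ⟨n, n.2, ?_⟩
    intro w w' hw
    have : w' = n • w := Subtype.ext hw
    rw [this, dsmul_apply_smul]

theorem dsmul_one (n : Subgroup.normalizer (P : Set G)) : dsmul P n 1 = 1 := by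
  apply MonoidHom.ext; intro w; rfl

theorem dsmul_ne_one (n : Subgroup.normalizer (P : Set G)) {ψ : P →* ℂˣ} (h : ψ ≠ 1) :
    dsmul P n ψ ≠ 1 := by
  intro h1
  apply h
  apply MonoidHom.ext; intro w
  have := DFunLike.congr_fun h1 (n • w)
  rwa [dsmul_apply_smul] at this

theorem dualRel_refl (ψ : P →* ℂˣ) : dualRel P ψ ψ :=
  (dualRel_iff P ψ ψ).2 ⟨1, (dualAct P).one_smul ψ⟩

theorem dualRel_symm {ψ ψ' : P →* ℂˣ} (h : dualRel P ψ ψ') : dualRel P ψ' ψ := by
  obtain ⟨n, rfl⟩ := (dualRel_iff P ψ ψ').1 h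
  refine (dualRel_iff P _ _).2 ⟨n⁻¹, ?_⟩
  have := (dualAct P).mul_smul n⁻¹ n ψ
  rw [inv_mul_cancel] at this
  exact this.symm.trans ((dualAct P).one_smul ψ)

theorem dualRel_trans {ψ ψ' ψ'' : P →* ℂˣ} (h : dualRel P ψ ψ') (h' : dualRel P ψ' ψ'') :
    dualRel P ψ ψ'' := by
  obtain ⟨n, rfl⟩ := (dualRel_iff P ψ ψ').1 h
  obtain ⟨n', rfl⟩ := (dualRel_iff P _ _).1 h'
  exact (dualRel_iff P _ _).2 ⟨n' * n, (dualAct P).mul_smul n' n ψ⟩

theorem dualRel_ne_one {ψ ψ' : P →* ℂˣ} (h : dualRel P ψ ψ') (h1 : ψ ≠ 1) : ψ' ≠ 1 := by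
  obtain ⟨n, rfl⟩ := (dualRel_iff P ψ ψ').1 h
  exact dsmul_ne_one P n h1

variable [Finite P]

/-- An element of the normalizer fixing a nontrivial linear character of the abelian group `P` fixes
a nontrivial element of `P`. -/
theorem exists_fixed_of_dsmul_eq (hc : ∀ a b : P, a * b = b * a)
    (n : Subgroup.normalizer (P : Set G)) {ψ : P →* ℂˣ} (h1 : ψ ≠ 1) (h : dsmul P n ψ = ψ) :
    ∃ u : P, u ≠ 1 ∧ n • u = u := by
  by_contra hcon
  push Not at hcon
  let f : P → P := fun w => (n • w) * w⁻¹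
  have hinj : Function.Injective f := by
    intro a b hab
    by_contra hne
    have hu : a * b⁻¹ ≠ 1 := fun h => hne (mul_inv_eq_one.1 h)
    apply hcon _ hu
    have h2 : (n • a) * a⁻¹ = (n • b) * b⁻¹ := hab
    rw [smul_mul', smul_inv']
    have h3 : n • a = (n • b) * b⁻¹ * a := by rw [← h2]; group
    rw [h3]
    calc (n • b) * b⁻¹ * a * (n • b)⁻¹ = (n • b) * (b⁻¹ * a * (n • b)⁻¹) := by group
      _ = (n • b) * ((n • b)⁻¹ * (b⁻¹ * a)) := by rw [hc (b⁻¹ * a)]
      _ = b⁻¹ * a := by group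
      _ = a * b⁻¹ := hc _ _
  have hsurj : Function.Surjective f := Finite.surjective_of_injective hinj
  apply h1
  apply MonoidHom.ext; intro v
  obtain ⟨w, rfl⟩ := hsurj v
  show ψ ((n • w) * w⁻¹) = 1
  rw [map_mul, map_inv, mul_inv_eq_one]
  conv_lhs => rw [← h]
  rw [dsmul_apply_smul]

end

section count

variable {G : Type*} [Group G] [Finite G] (P : Subgroup G)

/-- Freeness hypothesis: an element of `N_G(P)` fixing a nonidentity element of `P` centralizes `P`. -/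
def FreeNC : Prop :=
  ∀ n ∈ Subgroup.normalizer (P : Set G), ∀ y ∈ P, y ≠ 1 → n * y * n⁻¹ = y →
    n ∈ Subgroup.centralizer (P : Set G)

theorem dsmul_eq_iff_mem_centralizer (hc : ∀ a b : P, a * b = b * a) (hfree : FreeNC P)
    (n : Subgroup.normalizer (P : Set G)) {ψ : P →* ℂˣ} (h1 : ψ ≠ 1) :
    dsmul P n ψ = ψ ↔ (n : G) ∈ Subgroup.centralizer (P : Set G) := by
  constructor
  · intro h
    obtain ⟨u, hu, hnu⟩ := exists_fixed_of_dsmul_eq P hc n h1 h
    exact hfree n n.2 u u.2 (fun h => hu (Subtype.ext h)) (congrArg Subtype.val hnu)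
  · intro h
    apply MonoidHom.ext; intro w
    rw [dsmul_apply]
    congr 1
    apply Subtype.ext
    show (n : G)⁻¹ * (w : G) * (n : G)⁻¹⁻¹ = w
    have := Subgroup.mem_centralizer_iff.1 h (w : G) w.2
    rw [inv_inv, mul_assoc, this]; group

theorem card_dsmul_fiber (hc : ∀ a b : P, a * b = b * a) (hfree : FreeNC P)
    {φ ψ : P →* ℂˣ} (h1 : φ ≠ 1) (h : dualRel P φ ψ) :
    Nat.card {n : Subgroup.normalizer (P : Set G) // dsmul P n φ = ψ}
      = Nat.card (Subgroup.centralizer (P : Set G)) := by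
  obtain ⟨n₀, hn₀⟩ := (dualRel_iff P φ ψ).1 h
  have hCN : Subgroup.centralizer (P : Set G) ≤ Subgroup.normalizer (P : Set G) :=
    Subgroup.centralizer_le_normalizer _
  apply Nat.card_congr
  refine ⟨fun n => ⟨(n₀⁻¹ * n.1 : Subgroup.normalizer (P : Set G)), ?_⟩,
    fun c => ⟨n₀ * ⟨c.1, hCN c.2⟩, ?_⟩, ?_, ?_⟩
  · rw [← dsmul_eq_iff_mem_centralizer P hc hfree _ h1]
    have e1 := (dualAct P).mul_smul n₀⁻¹ n.1 φ
    have e2 : dsmul P (n₀⁻¹ * n.1) φ = dsmul P n₀⁻¹ (dsmul P n.1 φ) := e1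
    rw [e2, n.2, ← hn₀]
    have e3 := (dualAct P).mul_smul n₀⁻¹ n₀ φ
    rw [inv_mul_cancel] at e3
    exact e3.symm.trans ((dualAct P).one_smul φ)
  · have e1 : dsmul P (n₀ * ⟨c.1, hCN c.2⟩) φ = dsmul P n₀ (dsmul P ⟨c.1, hCN c.2⟩ φ) :=
      (dualAct P).mul_smul n₀ _ φ
    rw [e1, (dsmul_eq_iff_mem_centralizer P hc hfree ⟨c.1, hCN c.2⟩ h1).2 c.2, hn₀]
  · intro n; ext; simp
  · intro c; ext; simp

/-- Orbits of nontrivial characters have length `|N : C|`. -/
theorem card_dualRel_class (hc : ∀ a b : P, a * b = b * a) (hfree : FreeNC P)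
    {φ : P →* ℂˣ} (h1 : φ ≠ 1) :
    Nat.card {ψ : P →* ℂˣ // dualRel P φ ψ}
      = (Subgroup.centralizer (P : Set G)).relIndex (Subgroup.normalizer (P : Set G)) := by
  letI := dualAct P
  have hstab : MulAction.stabilizer (Subgroup.normalizer (P : Set G)) φ
      = (Subgroup.centralizer (P : Set G)).subgroupOf (Subgroup.normalizer (P : Set G)) := by
    ext n
    rw [MulAction.mem_stabilizer_iff, Subgroup.mem_subgroupOf]
    exact dsmul_eq_iff_mem_centralizer P hc hfree n h1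
  rw [Subgroup.relIndex, ← hstab, MulAction.index_stabilizer, ← Nat.card_coe_set_eq]
  apply Nat.card_congr
  apply Equiv.subtypeEquivRight
  intro ψ
  rw [dualRel_iff, MulAction.mem_orbit_iff]
  rfl

end count

end Cfsg.Agent.Lib.Helper83
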