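import Cfsg.Agent.Lib.Helper83.BLDual
import Cfsg.Agent.Lib.Helper83.Basic
import Cfsg.Agent.Lib.Helper81.Osima

/-!
# Multiplicities of linear characters of an abelian subgroup in restricted characters
-/

set_option autoImplicit false
set_option linter.unusedSectionVars false
open Cfsg
open scoped ComplexConjugate

namespace Cfsg.Agent.Lib.Helper83

open Cfsg.Agent.Lib.Helper20 Cfsg.Agent.Lib.Helper46 Cfsg.Agent.Lib.Helper81

section

variable {G : Type*} [Group G] (P : Subgroup G) [Fintype P]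

/-- multiplicity of `ψ` in `χ_P` -/
noncomputable def cfP (χ : G → ℂ) (ψ : P →* ℂˣ) : ℂ :=
  classInner (fun y : P => χ y) (fun y : P => ((ψ y : ℂˣ) : ℂ))

theorem cfP_nat {χ : G → ℂ} (hχ : IsCharacter G χ) (ψ : P →* ℂˣ) : ∃ n : ℕ, cfP P χ ψ = n :=
  isCharacter_classInner_nat (isCharacter_restrict hχ P) (isIrr_of_hom ψ)

/-- the multiplicity as an integer -/
noncomputable def cZ (χ : IrrCharacter G) (ψ : P →* ℂˣ) : ℤ :=
  (Classical.choose (cfP_nat P (isCharacter_of_isIrrCharacter χ.2) ψ) : ℕ)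

theorem cZ_spec (χ : IrrCharacter G) (ψ : P →* ℂˣ) : ((cZ P χ ψ : ℤ) : ℂ) = cfP P χ ψ := by
  have := Classical.choose_spec (cfP_nat P (isCharacter_of_isIrrCharacter χ.2) ψ)
  rw [cZ, Int.cast_natCast]
  exact this.symm

theorem expand_dual (hc : ∀ a b : P, a * b = b * a) [Fintype (P →* ℂˣ)] (f : P → ℂ) (y : P) :
    f y = ∑ ψ : P →* ℂˣ, classInner f (fun y : P => ((ψ y : ℂˣ) : ℂ)) * ((ψ y : ℂˣ) : ℂ) := by
  classical
  have h1 : ∀ ψ : P →* ℂˣ, classInner f (fun y : P => ((ψ y : ℂˣ) : ℂ)) * ((ψ y : ℂˣ) : ℂ)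
      = ∑ y' : P, (Nat.card P : ℂ)⁻¹ * f y' * ((ψ (y'⁻¹ * y) : ℂˣ) : ℂ) := by
    intro ψ
    rw [classInner, Finset.mul_sum, Finset.sum_mul]
    apply Finset.sum_congr rfl
    intro y' _
    rw [hom_conj, map_mul, Units.val_mul]
    ring
  rw [Finset.sum_congr rfl (fun ψ _ => h1 ψ), Finset.sum_comm]
  have h2 : ∀ y' : P, ∑ ψ : P →* ℂˣ, (Nat.card P : ℂ)⁻¹ * f y' * ((ψ (y'⁻¹ * y) : ℂˣ) : ℂ)
      = if y' = y then f y' else 0 := by
    intro y'
    rw [← Finset.mul_sum, sum_hom_dual hc]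
    have e : y'⁻¹ * y = 1 ↔ y' = y := by
      rw [inv_mul_eq_one]
    simp only [e]
    split_ifs
    · have := card_ne_zero_complex (G := P)
      field_simp
    · simp
  rw [Finset.sum_congr rfl (fun y' _ => h2 y')]
  simp

theorem cfP_dsmul {χ : G → ℂ} (hχ : IsClassFunction G χ) (n : Subgroup.normalizer (P : Set G))
    (ψ : P →* ℂˣ) : cfP P χ (dsmul P n ψ) = cfP P χ ψ := by
  rw [cfP, cfP, classInner, classInner]
  congr 1
  rw [← Equiv.sum_comp (MulAction.toPerm n : Equiv.Perm P)]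
  apply Finset.sum_congr rfl
  intro y _
  rw [MulAction.toPerm_apply, dsmul_apply_smul]
  congr 1
  exact hχ (y : G) (n : G)

theorem cZ_dualRel (χ : IrrCharacter G) {ψ ψ' : P →* ℂˣ} (h : dualRel P ψ ψ') :
    cZ P χ ψ' = cZ P χ ψ := by
  obtain ⟨n, rfl⟩ := (dualRel_iff P ψ ψ').1 h
  have : ((cZ P χ (dsmul P n ψ) : ℤ) : ℂ) = ((cZ P χ ψ : ℤ) : ℂ) := by
    rw [cZ_spec, cZ_spec,
      cfP_dsmul P (isClassFunction_of_isCharacter (isCharacter_of_isIrrCharacter χ.2))]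
  exact_mod_cast this

/-- `χ(y) = ∑_ψ c_ψ ψ(y)`. -/
theorem irr_expand (hc : ∀ a b : P, a * b = b * a) [Fintype (P →* ℂˣ)] (χ : IrrCharacter G)
    (y : P) :
    (χ : G → ℂ) y = ∑ ψ : P →* ℂˣ, ((cZ P χ ψ : ℤ) : ℂ) * ((ψ y : ℂˣ) : ℂ) := by
  rw [expand_dual P hc (fun y : P => (χ : G → ℂ) y) y]
  apply Finset.sum_congr rfl
  intro ψ _
  rw [cZ_spec]; rfl

end

end Cfsg.Agent.Lib.Helper83
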