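import Cfsg.Agent.S4720
import Cfsg.Agent.S4722
import Cfsg.Agent.S0947
import Cfsg.Agent.Lib.Helper83.AbSylow
import Cfsg.Agent.Lib.Helper83.BLMult

/-!
# The Gram matrix of the principal block columns for an abelian Sylow subgroup with free `N/C`
-/

set_option autoImplicit false
set_option linter.unusedSectionVars false
open Cfsg
open scoped ComplexConjugate

namespace Cfsg.Agent.Lib.Helper83

open Cfsg.Agent.Lib.Helper20 Cfsg.Agent.Lib.Helper46 Cfsg.Agent.Lib.Helper81
  Cfsg.Agent.Lib.Helper51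

section

variable {G : Type*} [Group G] [Finite G] {p : ℕ} [Fact p.Prime] {M : Ideal AlgInt}

theorem lambda_centralizer (hM : IsPModular p M) (P : Sylow p G) [IsMulCommutative P] {y : G}
    (hy : y ∈ (P : Subgroup G)) (hy1 : y ≠ 1)
    (hfrob : Subgroup.centralizer ({y} : Set G) ⊓ Subgroup.normalizer ((P : Subgroup G) : Set G)
      = Subgroup.centralizer ((P : Subgroup G) : Set G)) :
    ((∑ᶠ ψ ∈ Cfsg.principalBlock M ↥(Subgroup.centralizer ({y} : Set G)),
      Cfsg.charDegree (ψ : ↥(Subgroup.centralizer ({y} : Set G)) → ℂ) ^ 2) : ℚ)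
      = (Nat.card (P : Subgroup G) : ℚ) := by
  classical
  have hord : ∃ k : ℕ, orderOf y = p ^ k := by
    obtain ⟨k, hk⟩ := (IsPGroup.iff_orderOf.1 P.2) ⟨y, hy⟩
    exact ⟨k, by rw [← hk, ← Subgroup.orderOf_coe]⟩
  have h1reg : ¬ p ∣ orderOf (1 : Subgroup.centralizer ({y} : Set G)) := by
    rw [orderOf_one, Nat.dvd_one]; exact (Fact.out : p.Prime).one_lt.ne'
  obtain ⟨h1, h2⟩ := Cfsg.Agent.S0947.result p M hM y hord hy1 1 h1reg
  have h3 := h2 (pPrimeCore_index_centralizer P hy hfrob)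
  rw [h1] at h3
  have hPH := sylow_le_centralizer_singleton P hy
  have hcard : p ^ (Nat.card (Subgroup.centralizer ({y} : Set G))).factorization p
      = Nat.card (P : Subgroup G) := by
    rw [← (P.subtype hPH).card_eq_multiplicity]
    exact Nat.card_congr (Subgroup.subgroupOfEquivOfLe hPH).toEquiv
  rw [hcard] at h3
  have : Finite (IrrCharacter (Subgroup.centralizer ({y} : Set G))) := finite_irrCharacter
  have : Fintype (IrrCharacter (Subgroup.centralizer ({y} : Set G))) := Fintype.ofFinite _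
  rw [finsum_mem_irr] at h3 ⊢
  have h4 : ∑ χ : IrrCharacter (Subgroup.centralizer ({y} : Set G)),
      (if χ ∈ principalBlock M (Subgroup.centralizer ({y} : Set G)) then
        (charDegree (χ : ↥(Subgroup.centralizer ({y} : Set G)) → ℂ)) ^ 2 else 0)
      = Nat.card (P : Subgroup G) := by
    have h5 : ((∑ χ : IrrCharacter (Subgroup.centralizer ({y} : Set G)),
      (if χ ∈ principalBlock M (Subgroup.centralizer ({y} : Set G)) then
        (charDegree (χ : ↥(Subgroup.centralizer ({y} : Set G)) → ℂ)) ^ 2 else 0) : ℕ) : ℝ)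
      = (Nat.card (P : Subgroup G) : ℝ) := by
      rw [← h3]
      push_cast
      apply Finset.sum_congr rfl
      intro χ _
      split_ifs
      · rw [Cfsg.Agent.Lib.Helper82.isChar_one_eq (isCharacter_of_isIrrCharacter χ.2)]
        simp
      · rfl
    exact_mod_cast h5
  rw [← h4]
  push_cast
  rfl

theorem freeNC_of_frob (P : Subgroup G)
    (hfrob : ∀ y : G, y ∈ P → y ≠ 1 →
      Subgroup.centralizer ({y} : Set G) ⊓ Subgroup.normalizer (P : Set G)
        = Subgroup.centralizer (P : Set G)) : FreeNC P := by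
  intro n hn y hy hy1 h
  rw [← hfrob y hy hy1]
  refine Subgroup.mem_inf.2 ⟨?_, hn⟩
  rw [Subgroup.mem_centralizer_iff]
  intro v hv
  rw [Set.mem_singleton_iff] at hv
  subst hv
  calc v * n = (n * v * n⁻¹) * n := by rw [h]
    _ = n * v := by group

theorem card_normalizer_eq (P : Subgroup G) :
    Nat.card (Subgroup.normalizer (P : Set G))
      = (Subgroup.centralizer (P : Set G)).relIndex (Subgroup.normalizer (P : Set G))
        * Nat.card (Subgroup.centralizer (P : Set G)) := by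
  have hCN : Subgroup.centralizer (P : Set G) ≤ Subgroup.normalizer (P : Set G) :=
    Subgroup.centralizer_le_normalizer _
  rw [Subgroup.relIndex, ← Subgroup.card_mul_index
    ((Subgroup.centralizer (P : Set G)).subgroupOf (Subgroup.normalizer (P : Set G))),
    Nat.card_congr (Subgroup.subgroupOfEquivOfLe hCN).toEquiv, mul_comm]

theorem sum_one_sub_hom {A : Type*} [Group A] [Fintype A] {ψ φ : A →* ℂˣ} (hψ : ψ ≠ 1)
    (hφ : φ ≠ 1) [Decidable (ψ = φ)] :
    ∑ y : A, ((1 : ℂ) - ((ψ y : ℂˣ) : ℂ)) * conj ((1 : ℂ) - ((φ y : ℂˣ) : ℂ))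
      = (Nat.card A : ℂ) * (1 + if ψ = φ then 1 else 0) := by
  classical
  have h1 : ∀ y : A, ((1 : ℂ) - ((ψ y : ℂˣ) : ℂ)) * conj ((1 : ℂ) - ((φ y : ℂˣ) : ℂ))
      = (((1 : A →* ℂˣ) y : ℂˣ) : ℂ) * conj ((((1 : A →* ℂˣ) y : ℂˣ) : ℂ))
        - (((1 : A →* ℂˣ) y : ℂˣ) : ℂ) * conj ((φ y : ℂˣ) : ℂ)
        - ((ψ y : ℂˣ) : ℂ) * conj ((((1 : A →* ℂˣ) y : ℂˣ) : ℂ))
        + ((ψ y : ℂˣ) : ℂ) * conj ((φ y : ℂˣ) : ℂ) := by
    intro y
    simp only [MonoidHom.one_apply, Units.val_one, map_sub, map_one]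
    ring
  simp only [h1, Finset.sum_add_distrib, Finset.sum_sub_distrib, sum_hom_orth]
  rw [if_pos trivial, if_neg (Ne.symm hφ), if_neg hψ]
  split_ifs <;> ring

theorem cfP_sub_eq (P : Subgroup G) [Fintype P] (χ : G → ℂ) (ξ : P →* ℂˣ) :
    (Nat.card P : ℂ)⁻¹ * ∑ y : P, χ (y : G) * ((1 : ℂ) - ((ξ y⁻¹ : ℂˣ) : ℂ))
      = cfP P χ 1 - cfP P χ ξ := by
  rw [cfP, cfP, classInner, classInner, ← mul_sub, ← Finset.sum_sub_distrib]
  congr 1
  apply Finset.sum_congr rfl
  intro y _
  rw [hom_conj ξ]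
  simp only [MonoidHom.one_apply, Units.val_one, map_one]
  ring

variable [Fintype (IrrCharacter G)]

open Classical in
theorem gram_complex (hM : IsPModular p M) (P : Sylow p G) [IsMulCommutative P]
    [Fintype (P : Subgroup G)]
    (hfrob : ∀ y : G, y ∈ (P : Subgroup G) → y ≠ 1 →
      Subgroup.centralizer ({y} : Set G) ⊓ Subgroup.normalizer ((P : Subgroup G) : Set G)
        = Subgroup.centralizer ((P : Subgroup G) : Set G))
    {ψ φ : (P : Subgroup G) →* ℂˣ} (hψ : ψ ≠ 1) (hφ : φ ≠ 1) :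
    ∑ χ : IrrCharacter G, (if χ ∈ principalBlock M G then
      (cfP (P : Subgroup G) χ 1 - cfP (P : Subgroup G) χ ψ) *
        conj (cfP (P : Subgroup G) χ 1 - cfP (P : Subgroup G) χ φ) else 0)
    = (((Subgroup.centralizer ((P : Subgroup G) : Set G)).relIndex
        (Subgroup.normalizer ((P : Subgroup G) : Set G)) : ℕ) : ℂ)
      + (if dualRel (P : Subgroup G) φ ψ then 1 else 0) := by
  have hc : ∀ a b : (P : Subgroup G), a * b = b * a :=
    fun a b => (inferInstance : IsMulCommutative P).is_comm.comm a b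
  have hfree := freeNC_of_frob (P : Subgroup G) hfrob
  set N := Subgroup.normalizer ((P : Subgroup G) : Set G) with hN
  set C := Subgroup.centralizer ((P : Subgroup G) : Set G) with hC
  have : Fintype N := Fintype.ofFinite _
  let θ : ↥(P : Subgroup G) → ℂ := fun y => (1 : ℂ) - ((ψ y : ℂˣ) : ℂ)
  let η : ↥(P : Subgroup G) → ℂ := fun y => (1 : ℂ) - ((φ y : ℂˣ) : ℂ)
  let U : Set G := {u | u ∈ (P : Subgroup G) ∧ u ≠ 1}
  have hgen : ∀ ξ : (P : Subgroup G) →* ℂˣ,
      IsGeneralizedCharacter (P : Subgroup G) (fun y => (1 : ℂ) - ((ξ y : ℂˣ) : ℂ)) := by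
    intro ξ
    refine ⟨fun y => (((1 : (P : Subgroup G) →* ℂˣ) y : ℂˣ) : ℂ), fun y => ((ξ y : ℂˣ) : ℂ),
      isCharacter_of_isIrrCharacter (isIrr_of_hom _),
      isCharacter_of_isIrrCharacter (isIrr_of_hom _), ?_⟩
    ext y; simp
  have hUne : U.Nonempty := by
    by_contra hemp
    apply hψ
    apply MonoidHom.ext; intro y
    by_cases hy : y = 1
    · rw [hy, map_one, map_one]
    · exact absurd ⟨(y : G), y.2, fun h => hy (Subtype.ext h)⟩ hemp
  have hCpos : (Nat.card C : ℚ) ≠ 0 := by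
    have : 0 < Nat.card C := Nat.card_pos
    positivity
  have key := Cfsg.Agent.S4720.result p M hM (P : Subgroup G) P.2 N
    (Subgroup.le_normalizer) le_rfl U hUne (fun u hu => hu.1)
    (by
      intro n hn u hu
      refine ⟨(Subgroup.mem_normalizer_iff.1 hn u).1 hu.1, ?_⟩
      intro h
      apply hu.2
      have : u = n⁻¹ * (n * u * n⁻¹) * n := by group
      rw [this, h]; group)
    (fun u hu g hg => abelian_sylow_fusion P hu.1 g hg)
    ((Nat.card (P : Subgroup G) : ℚ) / (Nat.card C : ℚ))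
    (by
      intro y hy
      rw [lambda_centralizer hM P hy.1 hy.2 (hfrob y hy.1 hy.2), inf_comm, hfrob y hy.1 hy.2]
      field_simp)
    θ η (hgen ψ) (hgen φ)
    (by
      intro y hy
      have : y = 1 := by
        by_contra h
        exact hy ⟨y.2, fun h' => h (Subtype.ext h')⟩
      show (1 : ℂ) - ((ψ y : ℂˣ) : ℂ) = 0
      rw [this, map_one]; simp)
  rw [finsum_mem_irr] at key
  simp only [finsum_eq_sum_of_fintype] at key
  have hL : ∀ (χ : IrrCharacter G) (ξ : (P : Subgroup G) →* ℂˣ),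
      (Nat.card (P : Subgroup G) : ℂ)⁻¹ * ∑ y : (P : Subgroup G), (χ : G → ℂ) (y : G) *
        ((1 : ℂ) - ((ξ y⁻¹ : ℂˣ) : ℂ))
      = cfP (P : Subgroup G) χ 1 - cfP (P : Subgroup G) χ ξ := by
    intro χ ξ
    rw [cfP, cfP, classInner, classInner, ← mul_sub, ← Finset.sum_sub_distrib]
    congr 1
    apply Finset.sum_congr rfl
    intro y _
    rw [hom_conj ξ]
    simp only [MonoidHom.one_apply, Units.val_one, map_one]
    ring
  have hLHS : ∀ χ : IrrCharacter G, (if χ ∈ principalBlock M G then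
      (cfP (P : Subgroup G) χ 1 - cfP (P : Subgroup G) χ ψ) *
        conj (cfP (P : Subgroup G) χ 1 - cfP (P : Subgroup G) χ φ) else 0)
      = (if χ ∈ principalBlock M G then
        ((Nat.card (P : Subgroup G) : ℂ)⁻¹ * ∑ y : (P : Subgroup G), (χ : G → ℂ) (y : G) * θ y⁻¹) *
        conj ((Nat.card (P : Subgroup G) : ℂ)⁻¹ *
          ∑ y : (P : Subgroup G), (χ : G → ℂ) (y : G) * η y⁻¹) else 0) := by
    intro χ
    rw [← hL χ ψ, ← hL χ φ]
  rw [Finset.sum_congr rfl (fun χ _ => hLHS χ), key]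
  -- the right hand side
  have hext : ∀ (x : N) (y : (P : Subgroup G)),
      extendByZero (P : Subgroup G) η ((x : G) * (y : G) * (x : G)⁻¹)
        = (1 : ℂ) - ((dsmul (P : Subgroup G) x⁻¹ φ y : ℂˣ) : ℂ) := by
    intro x y
    have h1 : (x : G) * (y : G) * (x : G)⁻¹ = ((x • y : (P : Subgroup G)) : G) := rfl
    rw [h1]
    have h2 : extendByZero (P : Subgroup G) η ((x • y : (P : Subgroup G)) : G) = η (x • y) :=
      Function.Injective.extend_apply Subtype.val_injective η 0 (x • y)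
    rw [h2, dsmul_apply, inv_inv]
  have hR : ∑ y : (P : Subgroup G), θ y * conj (∑ x : N,
      extendByZero (P : Subgroup G) η ((x : G) * (y : G) * (x : G)⁻¹))
      = (Nat.card (P : Subgroup G) : ℂ) * ((Nat.card N : ℂ) +
        (Nat.card {n : N // dsmul (P : Subgroup G) n φ = ψ} : ℂ)) := by
    simp only [hext, map_sum, Finset.mul_sum]
    rw [Finset.sum_comm]
    have h3 : ∀ x : N, ∑ y : (P : Subgroup G), θ y *
        conj ((1 : ℂ) - ((dsmul (P : Subgroup G) x⁻¹ φ y : ℂˣ) : ℂ))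
        = (Nat.card (P : Subgroup G) : ℂ) *
          (1 + if ψ = dsmul (P : Subgroup G) x⁻¹ φ then 1 else 0) :=
      fun x => sum_one_sub_hom hψ (dsmul_ne_one _ _ hφ)
    rw [Finset.sum_congr rfl (fun x _ => h3 x), ← Finset.mul_sum, Finset.sum_add_distrib]
    congr 2
    · simp [Nat.card_eq_fintype_card]
    · rw [← Equiv.sum_comp (Equiv.inv N)]
      simp only [Equiv.inv_apply, inv_inv]
      rw [Finset.sum_boole, Nat.card_eq_fintype_card, Fintype.card_subtype]
      congr 2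
      ext n
      simp only [Finset.mem_filter, Finset.mem_univ, true_and]
      exact eq_comm
  have hcardN : (Nat.card N : ℂ) = ((C.relIndex N : ℕ) : ℂ) * (Nat.card C : ℂ) := by
    have := card_normalizer_eq (P : Subgroup G)
    exact_mod_cast this
  have hPne : (Nat.card (P : Subgroup G) : ℂ) ≠ 0 := Nat.cast_ne_zero.2 Nat.card_pos.ne'
  have hCne : (Nat.card C : ℂ) ≠ 0 := Nat.cast_ne_zero.2 Nat.card_pos.ne'
  rw [hR, hcardN]
  by_cases hrel : dualRel (P : Subgroup G) φ ψ
  · have h5 : Nat.card {n : N // dsmul (P : Subgroup G) n φ = ψ} = Nat.card C :=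
      card_dsmul_fiber _ hc hfree hφ hrel
    rw [h5, if_pos hrel]
    push_cast
    field_simp
  · have hemp : IsEmpty {n : N // dsmul (P : Subgroup G) n φ = ψ} :=
      ⟨fun n => hrel ((dualRel_iff _ _ _).2 ⟨n.1, n.2⟩)⟩
    have h5 : Nat.card {n : N // dsmul (P : Subgroup G) n φ = ψ} = 0 := Nat.card_of_isEmpty
    rw [h5, if_neg hrel]
    push_cast
    field_simp
    ring

end

end Cfsg.Agent.Lib.Helper83
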