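import Cfsg.Agent.Lib.Helper83.BLGram
import Cfsg.Agent.Lib.Helper83.BLCore

/-!
# Brauer–Leonard: the principal block for an abelian Sylow subgroup with free `N/C`
-/

set_option autoImplicit false
set_option linter.unusedSectionVars false
open Cfsg
open scoped ComplexConjugate

namespace Cfsg.Agent.Lib.Helper83

open Cfsg.Agent.Lib.Helper20 Cfsg.Agent.Lib.Helper46 Cfsg.Agent.Lib.Helper81
  Cfsg.Agent.Lib.Helper51

section

variable {G : Type*} [Group G] [Fintype G] [Fintype (IrrCharacter G)] {p : ℕ} [Fact p.Prime]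
  (M : Ideal AlgInt)

open Classical in
/-- coefficient of `χ` in the lift of `m·1 - (orbit sum of ψ)` -/
noncomputable def blK (P : Subgroup G) [Fintype P] (ψ : P →* ℂˣ) (χ : IrrCharacter G) : ℤ :=
  if χ ∈ principalBlock M G then cZ P χ 1 - cZ P χ ψ else 0

theorem blK_of_mem (P : Subgroup G) [Fintype P] (ψ : P →* ℂˣ) {χ : IrrCharacter G}
    (h : χ ∈ principalBlock M G) : blK M P ψ χ = cZ P χ 1 - cZ P χ ψ := by
  rw [blK, if_pos h]

theorem blK_of_not_mem (P : Subgroup G) [Fintype P] (ψ : P →* ℂˣ) {χ : IrrCharacter G}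
    (h : χ ∉ principalBlock M G) : blK M P ψ χ = 0 := by
  rw [blK, if_neg h]

theorem blK_dualRel (P : Subgroup G) [Fintype P] {ψ ψ' : P →* ℂˣ} (h : dualRel P ψ ψ') :
    blK M P ψ' = blK M P ψ := by
  funext χ
  rw [blK, blK, cZ_dualRel P χ h]

variable {M}

open Classical in
theorem blK_gram (hM : IsPModular p M) (P : Sylow p G) [IsMulCommutative P]
    [Fintype (P : Subgroup G)]
    (hfrob : ∀ y : G, y ∈ (P : Subgroup G) → y ≠ 1 →
      Subgroup.centralizer ({y} : Set G) ⊓ Subgroup.normalizer ((P : Subgroup G) : Set G)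
        = Subgroup.centralizer ((P : Subgroup G) : Set G))
    {ψ φ : (P : Subgroup G) →* ℂˣ} (hψ : ψ ≠ 1) (hφ : φ ≠ 1) :
    ∑ χ : IrrCharacter G, blK M (P : Subgroup G) ψ χ * blK M (P : Subgroup G) φ χ
    = (((Subgroup.centralizer ((P : Subgroup G) : Set G)).relIndex
        (Subgroup.normalizer ((P : Subgroup G) : Set G)) : ℕ) : ℤ)
      + (if dualRel (P : Subgroup G) φ ψ then 1 else 0) := by
  have h := gram_complex hM P hfrob hψ hφ
  have h2 : ((∑ χ : IrrCharacter G, blK M (P : Subgroup G) ψ χ * blK M (P : Subgroup G) φ χ : ℤ) : ℂ)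
      = (((((Subgroup.centralizer ((P : Subgroup G) : Set G)).relIndex
        (Subgroup.normalizer ((P : Subgroup G) : Set G)) : ℕ) : ℤ)
      + (if dualRel (P : Subgroup G) φ ψ then 1 else 0) : ℤ) : ℂ) := by
    push_cast
    rw [← h]
    apply Finset.sum_congr rfl
    intro χ _
    rw [blK, blK]
    split_ifs
    · push_cast
      rw [← cZ_spec _ χ 1, ← cZ_spec _ χ φ, ← cZ_spec _ χ ψ, map_sub, map_intCast, map_intCast]
    · simp
  exact_mod_cast h2

theorem blK_vanish (hM : IsPModular p M) (P : Subgroup G) (hP : IsPGroup p P) [Fintype P]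
    (ψ : P →* ℂˣ) {g : G} (hg : ¬ p ∣ orderOf g) : zcomb (blK M P ψ) g = 0 := by
  classical
  have h1 := Cfsg.Agent.S4722.col_sum_zero (principalBlock M G) P
    (fun y => (1 : ℂ) - ((ψ y : ℂˣ) : ℂ)) (fun χ => (χ : G → ℂ) g) (by
      intro y hy
      have hy1 : (y : G) ≠ 1 := by
        intro h
        apply hy
        have : y = 1 := Subtype.ext h
        rw [this]; simp
      have hord : ∃ k : ℕ, orderOf (y : G) = p ^ k := by
        obtain ⟨k, hk⟩ := (IsPGroup.iff_orderOf.1 hP) y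
        exact ⟨k, by rw [← hk, ← Subgroup.orderOf_coe]⟩
      have := orth_pelem hM _ (Cfsg.Agent.S0936.isPBlock_principal (G := G) M) hord g⁻¹ 1
        ⟨g⁻¹, one_mul _, Commute.one_left _, ⟨0, by simp⟩, by rwa [orderOf_inv]⟩
        (by
          intro hconj
          exact hy1 (isConj_one_left.1 hconj))
      rwa [inv_inv] at this)
  rw [finsum_mem_irr] at h1
  simp only [finsum_eq_sum_of_fintype] at h1
  rw [zcomb_apply, ← h1]
  apply Finset.sum_congr rfl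
  intro χ _
  rw [blK]
  split_ifs
  · rw [cfP_sub_eq]
    push_cast
    rw [cZ_spec, cZ_spec]
  · simp

/-- values on `P^#` in terms of the coefficients -/
theorem blK_value (P : Subgroup G) [Fintype P] (hc : ∀ a b : P, a * b = b * a)
    [Fintype (P →* ℂˣ)] {χ : IrrCharacter G} (hχ : χ ∈ principalBlock M G) {y : P} (hy : y ≠ 1) :
    (χ : G → ℂ) y = - ∑ ψ : P →* ℂˣ, ((blK M P ψ χ : ℤ) : ℂ) * ((ψ y : ℂˣ) : ℂ) := by
  classical
  rw [irr_expand P hc χ y]
  have h1 : ∀ ψ : P →* ℂˣ, ((cZ P χ ψ : ℤ) : ℂ) * ((ψ y : ℂˣ) : ℂ)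
      = ((cZ P χ 1 : ℤ) : ℂ) * ((ψ y : ℂˣ) : ℂ) - ((blK M P ψ χ : ℤ) : ℂ) * ((ψ y : ℂˣ) : ℂ) := by
    intro ψ
    rw [blK_of_mem M P ψ hχ]
    push_cast; ring
  rw [Finset.sum_congr rfl (fun ψ _ => h1 ψ), Finset.sum_sub_distrib, ← Finset.mul_sum,
    sum_hom_dual hc, if_neg hy]
  ring

theorem card_hom_ne_one {A : Type*} [Group A] [Finite A] (hc : ∀ a b : A, a * b = b * a) :
    Nat.card {ψ : A →* ℂˣ // ψ ≠ 1} = Nat.card A - 1 := by
  classical
  have : Finite (A →* ℂˣ) := finite_hom hc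
  have : Fintype (A →* ℂˣ) := Fintype.ofFinite _
  rw [← card_hom hc, Nat.card_eq_fintype_card, Nat.card_eq_fintype_card, Fintype.card_subtype,
    Finset.filter_ne' Finset.univ (1 : A →* ℂˣ), Finset.card_erase_of_mem (Finset.mem_univ _),
    Finset.card_univ]

theorem exists_two_orbits (P : Subgroup G) (hc : ∀ a b : P, a * b = b * a) (hfree : FreeNC P)
    (hm2 : (Subgroup.centralizer (P : Set G)).relIndex (Subgroup.normalizer (P : Set G)) + 1
      < Nat.card P) :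
    ∃ ψ ψ' : P →* ℂˣ, ψ ≠ 1 ∧ ψ' ≠ 1 ∧ ¬ dualRel P ψ ψ' := by
  classical
  have : Finite (P →* ℂˣ) := finite_hom hc
  have h1 := card_hom_ne_one hc (A := P)
  have hpos : 0 < Nat.card {ψ : P →* ℂˣ // ψ ≠ 1} := by omega
  obtain ⟨⟨ψ₀, hψ₀⟩⟩ := (Nat.card_pos_iff.1 hpos).1
  by_contra hcon
  push Not at hcon
  have h2 : Nat.card {ψ : P →* ℂˣ // ψ ≠ 1} ≤ Nat.card {ψ : P →* ℂˣ // dualRel P ψ₀ ψ} :=
    Nat.card_le_card_of_injective
      (fun ψ => (⟨ψ.1, hcon ψ₀ ψ.1 hψ₀ ψ.2⟩ : {ψ : P →* ℂˣ // dualRel P ψ₀ ψ}))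
      (fun a b hab => Subtype.ext (congrArg (fun x => x.1) hab))
  rw [card_dualRel_class P hc hfree hψ₀] at h2
  omega

open Classical in
theorem bl_main (hM : IsPModular p M) (P : Sylow p G) [IsMulCommutative P]
    [Fintype (P : Subgroup G)]
    (hfrob : ∀ y : G, y ∈ (P : Subgroup G) → y ≠ 1 →
      Subgroup.centralizer ({y} : Set G) ⊓ Subgroup.normalizer ((P : Subgroup G) : Set G)
        = Subgroup.centralizer ((P : Subgroup G) : Set G))
    (hm2 : (Subgroup.centralizer ((P : Subgroup G) : Set G)).relIndex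
      (Subgroup.normalizer ((P : Subgroup G) : Set G)) + 1 < Nat.card (P : Subgroup G)) :
    ∃ (ε d : ℤ) (ζ : ((P : Subgroup G) →* ℂˣ) → IrrCharacter G), (ε = 1 ∨ ε = -1) ∧
      (∀ ψ, ψ ≠ 1 → ζ ψ ∈ principalBlock M G) ∧
      (∀ ψ ψ', ψ ≠ 1 → ψ' ≠ 1 → (ζ ψ = ζ ψ' ↔ dualRel (P : Subgroup G) ψ ψ')) ∧
      (∀ ψ φ, ψ ≠ 1 → φ ≠ 1 → blK M (P : Subgroup G) ψ (ζ φ)
        = d - if dualRel (P : Subgroup G) ψ φ then ε else 0) ∧
      (∀ χ, (∀ φ, φ ≠ 1 → χ ≠ ζ φ) → ∀ ψ ψ', ψ ≠ 1 → ψ' ≠ 1 →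
        blK M (P : Subgroup G) ψ χ = blK M (P : Subgroup G) ψ' χ) := by
  have hc : ∀ a b : (P : Subgroup G), a * b = b * a :=
    fun a b => (inferInstance : IsMulCommutative P).is_comm.comm a b
  have hfree := freeNC_of_frob (P : Subgroup G) hfrob
  have : Finite ((P : Subgroup G) →* ℂˣ) := finite_hom hc
  obtain ⟨ψ₀, ψ₁, hψ₀, hψ₁, hnrel⟩ := exists_two_orbits (P : Subgroup G) hc hfree hm2
  let s : Setoid {ψ : (P : Subgroup G) →* ℂˣ // ψ ≠ 1} :=
    { r := fun a b => dualRel (P : Subgroup G) a.1 b.1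
      iseqv := ⟨fun a => dualRel_refl _ _, fun h => dualRel_symm _ h,
        fun h h' => dualRel_trans _ h h'⟩ }
  let Q := Quotient s
  have : Fintype Q := Fintype.ofFinite _
  have hmk : ∀ a b : {ψ : (P : Subgroup G) →* ℂˣ // ψ ≠ 1},
      ((Quotient.mk s a : Q) = Quotient.mk s b) ↔ dualRel (P : Subgroup G) a.1 b.1 :=
    fun a b => Quotient.eq (r := s)
  have hQ : 2 ≤ Fintype.card Q := by
    have : 1 < Fintype.card Q := by
      rw [Fintype.one_lt_card_iff]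
      exact ⟨Quotient.mk s ⟨ψ₀, hψ₀⟩, Quotient.mk s ⟨ψ₁, hψ₁⟩, fun h => hnrel ((hmk _ _).1 h)⟩
    omega
  let k : Q → IrrCharacter G → ℤ := fun q => blK M (P : Subgroup G) (Quotient.out q).1
  have hkmk : ∀ a : {ψ : (P : Subgroup G) →* ℂˣ // ψ ≠ 1},
      k (Quotient.mk s a) = blK M (P : Subgroup G) a.1 := by
    intro a
    have h1 : dualRel (P : Subgroup G) a.1 (Quotient.out (Quotient.mk s a : Q)).1 := by
      rw [← hmk, Quotient.out_eq]
    exact blK_dualRel M _ h1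
  obtain ⟨ε, d, μ, hε, hinj, hval, hoth⟩ := coherence_core hQ
    (((Subgroup.centralizer ((P : Subgroup G) : Set G)).relIndex
        (Subgroup.normalizer ((P : Subgroup G) : Set G)) : ℕ) : ℤ) k
    (by
      intro q q'
      show ∑ χ : IrrCharacter G, blK M (P : Subgroup G) (Quotient.out q).1 χ *
        blK M (P : Subgroup G) (Quotient.out q').1 χ = _
      rw [blK_gram hM P hfrob (Quotient.out q).2 (Quotient.out q').2]
      have : dualRel (P : Subgroup G) (Quotient.out q').1 (Quotient.out q).1 ↔ q = q' := by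
        rw [← hmk, Quotient.out_eq, Quotient.out_eq]
        exact eq_comm
      simp only [this])
    (fun q => blK_vanish hM _ P.2 _ (by
      rw [orderOf_one, Nat.dvd_one]; exact (Fact.out : p.Prime).one_lt.ne'))
  let ζ : ((P : Subgroup G) →* ℂˣ) → IrrCharacter G :=
    fun ψ => if h : ψ ≠ 1 then μ (Quotient.mk s ⟨ψ, h⟩) else oneIrr G
  have hζ : ∀ ψ (h : ψ ≠ 1), ζ ψ = μ (Quotient.mk s ⟨ψ, h⟩) := fun ψ h => dif_pos h
  have hZ2 : ∀ ψ φ, ψ ≠ 1 → φ ≠ 1 → blK M (P : Subgroup G) ψ (ζ φ)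
        = d - if dualRel (P : Subgroup G) ψ φ then ε else 0 := by
    intro ψ φ hψ hφ
    rw [hζ φ hφ, ← hkmk ⟨ψ, hψ⟩, hval]
    simp only [hmk]
  have hε0 : ε ≠ 0 := by rcases hε with h | h <;> rw [h] <;> norm_num
  refine ⟨ε, d, ζ, hε, ?_, ?_, hZ2, ?_⟩
  · intro ψ hψ
    by_contra hmem
    -- pick a character unrelated to ψ
    obtain ⟨ψ', hψ', hn⟩ : ∃ ψ', ψ' ≠ 1 ∧ ¬ dualRel (P : Subgroup G) ψ' ψ := by
      by_cases h0 : dualRel (P : Subgroup G) ψ₀ ψ
      · refine ⟨ψ₁, hψ₁, fun h1 => hnrel (dualRel_trans _ h0 (dualRel_symm _ h1))⟩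
      · exact ⟨ψ₀, hψ₀, h0⟩
    have h1 := hZ2 ψ ψ hψ hψ
    have h2 := hZ2 ψ' ψ hψ' hψ
    rw [blK_of_not_mem M _ _ hmem, if_pos (dualRel_refl _ _)] at h1
    rw [blK_of_not_mem M _ _ hmem, if_neg hn] at h2
    apply hε0; linarith
  · intro ψ ψ' hψ hψ'
    rw [hζ ψ hψ, hζ ψ' hψ', hinj.eq_iff, hmk]
  · intro χ hχ ψ ψ' hψ hψ'
    rw [← hkmk ⟨ψ, hψ⟩, ← hkmk ⟨ψ', hψ'⟩]
    apply hoth
    intro j
    have := hχ (Quotient.out j).1 (Quotient.out j).2
    rwa [hζ _ (Quotient.out j).2, Subtype.coe_eta, Quotient.out_eq] at this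

end

end Cfsg.Agent.Lib.Helper83
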