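import Cfsg.Agent.Lib.Helper83.BLMain

/-!
# The shape of the principal block columns (Brauer–Leonard), consequences
-/

set_option autoImplicit false
set_option linter.unusedSectionVars false
open Cfsg
open scoped ComplexConjugate

namespace Cfsg.Agent.Lib.Helper83

open Cfsg.Agent.Lib.Helper20 Cfsg.Agent.Lib.Helper46 Cfsg.Agent.Lib.Helper81
  Cfsg.Agent.Lib.Helper51

section

variable {G : Type*} [Group G] [Fintype G] [Fintype (IrrCharacter G)] {p : ℕ} [Fact p.Prime]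
  {M : Ideal AlgInt}

/-- the exceptional characters -/
def excSet {P : Subgroup G} (ζ : (P →* ℂˣ) → IrrCharacter G) : Set (IrrCharacter G) :=
  {χ | ∃ φ : P →* ℂˣ, φ ≠ 1 ∧ ζ φ = χ}

open Classical in
/-- The shape of the columns. -/
structure BLShape (M : Ideal AlgInt) (P : Subgroup G) [Fintype P] (ε d : ℤ)
    (ζ : (P →* ℂˣ) → IrrCharacter G) (a : IrrCharacter G → ℤ) : Prop where
  eps : ε = 1 ∨ ε = -1
  mem : ∀ ψ, ψ ≠ 1 → ζ ψ ∈ principalBlock M G
  inj : ∀ ψ ψ', ψ ≠ 1 → ψ' ≠ 1 → (ζ ψ = ζ ψ' ↔ dualRel P ψ ψ')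
  shape : ∀ ψ, ψ ≠ 1 → ∀ χ, blK M P ψ χ
    = (if χ ∈ principalBlock M G \ excSet ζ then a χ else 0)
      + (if χ ∈ excSet ζ then d else 0) - (if χ = ζ ψ then ε else 0)

open Classical in
theorem exists_blShape (hM : IsPModular p M) (P : Sylow p G) [IsMulCommutative P]
    [Fintype (P : Subgroup G)]
    (hfrob : ∀ y : G, y ∈ (P : Subgroup G) → y ≠ 1 →
      Subgroup.centralizer ({y} : Set G) ⊓ Subgroup.normalizer ((P : Subgroup G) : Set G)
        = Subgroup.centralizer ((P : Subgroup G) : Set G))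
    (hm2 : (Subgroup.centralizer ((P : Subgroup G) : Set G)).relIndex
      (Subgroup.normalizer ((P : Subgroup G) : Set G)) + 1 < Nat.card (P : Subgroup G)) :
    ∃ (ε d : ℤ) (ζ : ((P : Subgroup G) →* ℂˣ) → IrrCharacter G) (a : IrrCharacter G → ℤ),
      BLShape M (P : Subgroup G) ε d ζ a := by
  have hc : ∀ a b : (P : Subgroup G), a * b = b * a :=
    fun a b => (inferInstance : IsMulCommutative P).is_comm.comm a b
  have hfree := freeNC_of_frob (P : Subgroup G) hfrob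
  obtain ⟨ψ₀, ψ₁, hψ₀, hψ₁, hnrel⟩ := exists_two_orbits (P : Subgroup G) hc hfree hm2
  obtain ⟨ε, d, ζ, hε, hmem, hinj, hval, hoth⟩ := bl_main hM P hfrob hm2
  refine ⟨ε, d, ζ, blK M (P : Subgroup G) ψ₀, hε, hmem, hinj, ?_⟩
  intro ψ hψ χ
  by_cases hY : χ ∈ excSet ζ
  · obtain ⟨φ, hφ, rfl⟩ := hY
    have hY' : ζ φ ∈ excSet ζ := ⟨φ, hφ, rfl⟩
    rw [if_neg (fun h => h.2 hY'), if_pos hY', hval ψ φ hψ hφ]
    have : (ζ φ = ζ ψ) ↔ dualRel (P : Subgroup G) ψ φ := by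
      rw [← hinj ψ φ hψ hφ]; exact eq_comm
    simp only [this]
    ring
  · have hne : χ ≠ ζ ψ := fun h => hY ⟨ψ, hψ, h.symm⟩
    rw [if_neg hY, if_neg hne]
    by_cases hB : χ ∈ principalBlock M G
    · rw [if_pos ⟨hB, hY⟩, hoth χ (fun φ hφ h => hY ⟨φ, hφ, h.symm⟩) ψ ψ₀ hψ hψ₀]
      ring
    · rw [if_neg (fun h => hB h.1), blK_of_not_mem M _ _ hB]
      ring

variable {P : Subgroup G} [Fintype P] {ε d : ℤ} {ζ : (P →* ℂˣ) → IrrCharacter G}
  {a : IrrCharacter G → ℤ}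

open Classical in
/-- summation against the shape -/
theorem BLShape.sum_mul {R : Type*} [CommRing R] (h : BLShape M P ε d ζ a) {ψ : P →* ℂˣ}
    (hψ : ψ ≠ 1) (F : IrrCharacter G → R) :
    ∑ χ : IrrCharacter G, ((blK M P ψ χ : ℤ) : R) * F χ
      = (∑ χ : IrrCharacter G, if χ ∈ principalBlock M G \ excSet ζ then ((a χ : ℤ) : R) * F χ else 0)
        + (d : R) * (∑ χ : IrrCharacter G, if χ ∈ excSet ζ then F χ else 0) - (ε : R) * F (ζ ψ) := by
  have h1 : ∀ χ : IrrCharacter G, ((blK M P ψ χ : ℤ) : R) * F χ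
      = (if χ ∈ principalBlock M G \ excSet ζ then ((a χ : ℤ) : R) * F χ else 0)
        + (d : R) * (if χ ∈ excSet ζ then F χ else 0)
        - (if χ = ζ ψ then (ε : R) * F χ else 0) := by
    intro χ
    rw [h.shape ψ hψ χ]
    push_cast
    split_ifs <;> ring
  rw [Finset.sum_congr rfl (fun χ _ => h1 χ), Finset.sum_sub_distrib, Finset.sum_add_distrib,
    ← Finset.mul_sum, Finset.sum_ite_eq' Finset.univ (ζ ψ), if_pos (Finset.mem_univ _)]

theorem BLShape.eps_sq (h : BLShape M P ε d ζ a) : ε * ε = 1 := by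
  rcases h.eps with h | h <;> rw [h] <;> norm_num

theorem BLShape.mem_exc (h : BLShape M P ε d ζ a) {ψ : P →* ℂˣ} (hψ : ψ ≠ 1) :
    ζ ψ ∈ excSet ζ := ⟨ψ, hψ, rfl⟩

theorem BLShape.exc_subset (h : BLShape M P ε d ζ a) : excSet ζ ⊆ principalBlock M G := by
  rintro χ ⟨φ, hφ, rfl⟩
  exact h.mem φ hφ

/-- members of the exceptional family agree on `p`-regular elements -/
theorem BLShape.exc_agree (h : BLShape M P ε d ζ a) (hM : IsPModular p M) (hP : IsPGroup p P)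
    {ψ ψ' : P →* ℂˣ} (hψ : ψ ≠ 1) (hψ' : ψ' ≠ 1) {g : G} (hg : ¬ p ∣ orderOf g) :
    (ζ ψ : G → ℂ) g = (ζ ψ' : G → ℂ) g := by
  have h1 := blK_vanish hM P hP ψ hg
  have h2 := blK_vanish hM P hP ψ' hg
  rw [zcomb_apply, h.sum_mul hψ] at h1
  rw [zcomb_apply, h.sum_mul hψ'] at h2
  have h3 : (ε : ℂ) * ((ζ ψ : G → ℂ) g - (ζ ψ' : G → ℂ) g) = 0 := by linear_combination h2 - h1
  have hε : (ε : ℂ) ≠ 0 := by
    rcases h.eps with h | h <;> rw [h] <;> norm_num
  rcases mul_eq_zero.1 h3 with h4 | h4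
  · exact absurd h4 hε
  · exact sub_eq_zero.1 h4

theorem blK_one (χ : IrrCharacter G) : blK M P 1 χ = 0 := by
  rw [blK]; split_ifs <;> simp

open Classical in
/-- values on `P^#` -/
theorem BLShape.value (h : BLShape M P ε d ζ a) (hc : ∀ a b : P, a * b = b * a)
    [Fintype (P →* ℂˣ)] {χ : IrrCharacter G} (hχ : χ ∈ principalBlock M G) {y : P} (hy : y ≠ 1) :
    (χ : G → ℂ) y = (((if χ ∈ principalBlock M G \ excSet ζ then a χ else 0)
      + (if χ ∈ excSet ζ then d else 0) : ℤ) : ℂ)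
      + (ε : ℂ) * ∑ ψ : P →* ℂˣ, if ψ ≠ 1 ∧ ζ ψ = χ then ((ψ y : ℂˣ) : ℂ) else 0 := by
  rw [blK_value P hc hχ hy]
  set c : ℤ := (if χ ∈ principalBlock M G \ excSet ζ then a χ else 0)
      + (if χ ∈ excSet ζ then d else 0) with hcdef
  have h1 : ∀ ψ : P →* ℂˣ, ((blK M P ψ χ : ℤ) : ℂ) * ((ψ y : ℂˣ) : ℂ)
      = (c : ℂ) * ((ψ y : ℂˣ) : ℂ) - (if ψ = 1 then (c : ℂ) else 0)
        - (ε : ℂ) * (if ψ ≠ 1 ∧ ζ ψ = χ then ((ψ y : ℂˣ) : ℂ) else 0) := by
    intro ψ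
    by_cases hψ : ψ = 1
    · subst hψ
      rw [blK_one, if_pos rfl, if_neg (fun h => h.1 rfl)]
      simp
    · rw [h.shape ψ hψ χ, ← hcdef, if_neg hψ]
      by_cases he : χ = ζ ψ
      · rw [if_pos he, if_pos ⟨hψ, he.symm⟩]; push_cast; ring
      · rw [if_neg he, if_neg (fun h => he h.2.symm)]; push_cast; ring
  rw [Finset.sum_congr rfl (fun ψ _ => h1 ψ), Finset.sum_sub_distrib, Finset.sum_sub_distrib,
    ← Finset.mul_sum, ← Finset.mul_sum, sum_hom_dual hc, if_neg hy,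
    Finset.sum_ite_eq' Finset.univ (1 : P →* ℂˣ), if_pos (Finset.mem_univ _)]
  ring

open Classical in
theorem BLShape.value_nonexc (h : BLShape M P ε d ζ a) (hc : ∀ a b : P, a * b = b * a)
    {χ : IrrCharacter G} (hχ : χ ∈ principalBlock M G \ excSet ζ) {y : P} (hy : y ≠ 1) :
    (χ : G → ℂ) y = (a χ : ℂ) := by
  have : Finite (P →* ℂˣ) := finite_hom hc
  have : Fintype (P →* ℂˣ) := Fintype.ofFinite _
  rw [h.value hc hχ.1 hy, if_pos hχ, if_neg hχ.2, Finset.sum_eq_zero]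
  · simp
  · intro ψ _
    rw [if_neg]
    rintro ⟨h1, h2⟩
    exact hχ.2 ⟨ψ, h1, h2⟩

open Classical in
theorem BLShape.value_exc (h : BLShape M P ε d ζ a) (hc : ∀ a b : P, a * b = b * a)
    [Fintype (P →* ℂˣ)] {φ : P →* ℂˣ} (hφ : φ ≠ 1) {y : P} (hy : y ≠ 1) :
    (ζ φ : G → ℂ) y = (d : ℂ)
      + (ε : ℂ) * ∑ ψ : P →* ℂˣ, if dualRel P φ ψ then ((ψ y : ℂˣ) : ℂ) else 0 := by
  rw [h.value hc (h.mem φ hφ) hy, if_neg (fun hh => hh.2 (h.mem_exc hφ)), if_pos (h.mem_exc hφ)]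
  congr 2
  · simp
  · apply Finset.sum_congr rfl
    intro ψ _
    have : (ψ ≠ 1 ∧ ζ ψ = ζ φ) ↔ dualRel P φ ψ := by
      constructor
      · rintro ⟨h1, h2⟩
        exact (h.inj φ ψ hφ h1).1 h2.symm
      · intro h1
        have h2 := dualRel_ne_one P h1 hφ
        exact ⟨h2, ((h.inj φ ψ hφ h2).2 h1).symm⟩
    simp only [this]

/-- the number of exceptional characters -/
theorem BLShape.card_exc (h : BLShape M P ε d ζ a) (hc : ∀ a b : P, a * b = b * a)
    (hfree : FreeNC P) :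
    Nat.card (excSet ζ) * (Subgroup.centralizer (P : Set G)).relIndex
      (Subgroup.normalizer (P : Set G)) = Nat.card P - 1 := by
  classical
  have : Finite (P →* ℂˣ) := finite_hom hc
  rw [← card_hom_ne_one hc]
  let f : {ψ : P →* ℂˣ // ψ ≠ 1} → excSet ζ := fun ψ => ⟨ζ ψ.1, ψ.1, ψ.2, rfl⟩
  have : Fintype (excSet ζ) := Fintype.ofFinite _
  rw [Nat.card_congr (Equiv.sigmaFiberEquiv f).symm, Nat.card_sigma]
  have h1 : ∀ χ : excSet ζ, Nat.card {x // f x = χ}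
      = (Subgroup.centralizer (P : Set G)).relIndex (Subgroup.normalizer (P : Set G)) := by
    rintro ⟨χ, φ, hφ, rfl⟩
    rw [← card_dualRel_class P hc hfree hφ]
    apply Nat.card_congr
    refine ⟨fun x => ⟨x.1.1, ?_⟩, fun ψ => ⟨⟨ψ.1, dualRel_ne_one P ψ.2 hφ⟩, ?_⟩, ?_, ?_⟩
    · have := congrArg Subtype.val x.2
      exact (h.inj φ x.1.1 hφ x.1.2).1 this.symm
    · apply Subtype.ext
      exact ((h.inj φ ψ.1 hφ (dualRel_ne_one P ψ.2 hφ)).2 ψ.2).symm
    · intro x; rfl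
    · intro ψ; rfl
  rw [Finset.sum_congr rfl (fun χ _ => h1 χ), Finset.sum_const, Finset.card_univ,
    Nat.card_eq_fintype_card, smul_eq_mul]

open Classical in
theorem sum_ite_exc_one (ζ : (P →* ℂˣ) → IrrCharacter G) {R : Type*} [Semiring R] :
    (∑ χ : IrrCharacter G, if χ ∈ excSet ζ then (1 : R) else 0) = (Nat.card (excSet ζ) : R) := by
  rw [Finset.sum_boole, Nat.card_eq_fintype_card, Fintype.card_subtype]

open Classical in
/-- the norm equation -/
theorem BLShape.norm_eq (h : BLShape M P ε d ζ a) {ψ : P →* ℂˣ} (hψ : ψ ≠ 1) (m : ℤ)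
    (hgram : ∑ χ : IrrCharacter G, blK M P ψ χ * blK M P ψ χ = m + 1) :
    (d - ε) ^ 2 + ((Nat.card (excSet ζ) : ℤ) - 1) * d ^ 2
      + (∑ χ : IrrCharacter G, if χ ∈ principalBlock M G \ excSet ζ then a χ ^ 2 else 0) = m + 1 := by
  have h1 := h.sum_mul (R := ℤ) hψ (blK M P ψ)
  simp only [Int.cast_id] at h1
  rw [hgram] at h1
  have h2 : ∀ χ : IrrCharacter G, (if χ ∈ principalBlock M G \ excSet ζ then a χ * blK M P ψ χ else 0)
      = if χ ∈ principalBlock M G \ excSet ζ then a χ ^ 2 else 0 := by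
    intro χ
    split_ifs with hχ
    · rw [h.shape ψ hψ χ, if_pos hχ, if_neg hχ.2,
        if_neg (fun he : χ = ζ ψ => hχ.2 (he ▸ h.mem_exc hψ))]
      ring
    · rfl
  have h3 : ∀ χ : IrrCharacter G, (if χ ∈ excSet ζ then blK M P ψ χ else 0)
      = d * (if χ ∈ excSet ζ then 1 else 0) - (if χ = ζ ψ then ε else 0) := by
    intro χ
    split_ifs with hχ he he
    · rw [h.shape ψ hψ χ, if_neg (fun hh => hh.2 hχ), if_pos hχ, if_pos he]; ring
    · rw [h.shape ψ hψ χ, if_neg (fun hh => hh.2 hχ), if_pos hχ, if_neg he]; ring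
    · exact absurd (he ▸ h.mem_exc hψ) hχ
    · ring
  have h4 : blK M P ψ (ζ ψ) = d - ε := by
    rw [h.shape ψ hψ, if_neg (fun hh => hh.2 (h.mem_exc hψ)), if_pos (h.mem_exc hψ), if_pos rfl]
    ring
  rw [Finset.sum_congr rfl (fun χ _ => h2 χ), Finset.sum_congr rfl (fun χ _ => h3 χ),
    Finset.sum_sub_distrib, ← Finset.mul_sum, sum_ite_exc_one,
    Finset.sum_ite_eq' Finset.univ (ζ ψ), if_pos (Finset.mem_univ _), h4] at h1
  rw [h1]
  ring

open Classical in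
/-- the linear relation on `p`-regular elements -/
theorem BLShape.regular_rel (h : BLShape M P ε d ζ a) (hM : IsPModular p M) (hP : IsPGroup p P)
    {ψ : P →* ℂˣ} (hψ : ψ ≠ 1) {g : G} (hg : ¬ p ∣ orderOf g) :
    ((Nat.card (excSet ζ) : ℂ) * d - ε) * (ζ ψ : G → ℂ) g
      + (∑ χ : IrrCharacter G, if χ ∈ principalBlock M G \ excSet ζ then
          (a χ : ℂ) * (χ : G → ℂ) g else 0) = 0 := by
  have h1 := blK_vanish hM P hP ψ hg
  rw [zcomb_apply, h.sum_mul hψ] at h1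
  have h2 : ∀ χ : IrrCharacter G, (if χ ∈ excSet ζ then (χ : G → ℂ) g else 0)
      = (ζ ψ : G → ℂ) g * (if χ ∈ excSet ζ then 1 else 0) := by
    intro χ
    split_ifs with hχ
    · obtain ⟨φ, hφ, rfl⟩ := hχ
      rw [h.exc_agree hM hP hφ hψ hg, mul_one]
    · rw [mul_zero]
  rw [Finset.sum_congr rfl (fun χ _ => h2 χ), ← Finset.mul_sum, sum_ite_exc_one] at h1
  linear_combination h1

end

section nonzero

variable {G : Type*} [Group G] [Finite G] {p : ℕ} [Fact p.Prime] {M : Ideal AlgInt}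

/-- a principal block character does not vanish at an element centralized by a Sylow subgroup -/
theorem principal_ne_zero (hM : IsPModular p M) (P : Sylow p G) {y : G}
    (hy : (P : Subgroup G) ≤ Subgroup.centralizer ({y} : Set G)) {χ : IrrCharacter G}
    (hχ : χ ∈ principalBlock M G) : (χ : G → ℂ) y ≠ 0 := by
  intro h0
  have h1 : MemLocalIdeal M (centralChar (fun _ : G => (1 : ℂ)) y - centralChar (χ : G → ℂ) y) :=
    hχ y
  have h2 : centralChar (fun _ : G => (1 : ℂ)) y - centralChar (χ : G → ℂ) y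
      = (((Subgroup.centralizer ({y} : Set G)).index : ℕ) : ℂ) := by
    simp [centralChar, h0]
  rw [h2, memLocalIdeal_natCast_iff hM] at h1
  exact P.not_dvd_index (h1.trans (Subgroup.index_dvd_of_le hy))

end nonzero

end Cfsg.Agent.Lib.Helper83
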