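import Cfsg.Agent.S4539
import Cfsg.Agent.S4669
import Cfsg.Agent.S4733
import Cfsg.Agent.Lib.Helper21.ExtFirstMain
import Cfsg.Agent.Lib.Helper81.ClassAlg

set_option autoImplicit false
open Cfsg

/-! The easy direction of Brandt's theorem: a block with a defect group of order two has exactly
two irreducible characters. -/

namespace Cfsg.Agent.Lib.Helper83

/-- The `p`-regular rank of a nonempty set of irreducible characters is positive. -/
theorem one_le_blockRank {G : Type*} [Group G] [Finite G] (p : ℕ) [Fact p.Prime]
    (B : Set (IrrCharacter G)) (χ : IrrCharacter G) (hχ : χ ∈ B) : 1 ≤ blockRank p B := by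
  classical
  by_contra hcon
  have h0 : blockRank p B = 0 := by omega
  unfold blockRank at h0
  have : Fintype G := Fintype.ofFinite G
  rw [Submodule.finrank_eq_zero] at h0
  have h1 : pRegularPart p (χ : G → ℂ) ∈
      Submodule.span ℂ ((fun χ : IrrCharacter G => pRegularPart p (χ : G → ℂ)) '' B) :=
    Submodule.subset_span ⟨χ, hχ, rfl⟩
  rw [h0, Submodule.mem_bot] at h1
  have h2 := congrFun h1 1
  have hp : p.Prime := Fact.out
  have h3 : IsPRegular p (1 : G) := by
    unfold IsPRegular
    rw [orderOf_one]
    exact hp.one_lt.ne' ∘ Nat.dvd_one.1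
  simp only [pRegularPart, h3, if_true, Pi.zero_apply] at h2
  exact Cfsg.Agent.Lib.Helper81.irr_one_ne_zero χ.2 h2

/-- A block with a defect group of order two has exactly two irreducible characters. -/
theorem card_block_eq_two_of_card_defectGroup {G : Type*} [Group G] [Finite G] (p : ℕ)
    [Fact p.Prime] (M : Ideal AlgInt) (hM : IsPModular p M) (B : Set (IrrCharacter G))
    (hB : IsPBlock M B) (D : Subgroup G) (hD : IsDefectGroup p M B D) (h2 : Nat.card D = 2) :
    Nat.card B = 2 := by
  classical
  have : Fintype G := Fintype.ofFinite G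
  have hcard := Cfsg.Agent.Lib.Helper21.card_defectGroup hM B hB D hD
  -- the generator of `D`
  obtain ⟨z, hzD, hz1, hall⟩ : ∃ z ∈ D, z ≠ 1 ∧ ∀ d ∈ D, d = 1 ∨ d = z := by
    obtain ⟨a, b, hab, huniv⟩ := Nat.card_eq_two_iff.1 h2
    have h1 : (1 : D) ∈ ({a, b} : Set D) := by rw [huniv]; trivial
    rcases h1 with h1 | h1
    · refine ⟨b, b.2, ?_, ?_⟩
      · intro hb
        apply hab
        rw [← h1]
        exact (Subtype.ext hb).symm
      · intro d hd
        have h3 : (⟨d, hd⟩ : D) ∈ ({a, b} : Set D) := by rw [huniv]; trivial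
        rcases h3 with h3 | h3
        · left
          rw [← h1] at h3
          exact congrArg Subtype.val h3
        · right
          exact congrArg Subtype.val h3
    · have h1' : (1 : D) = b := h1
      refine ⟨a, a.2, ?_, ?_⟩
      · intro ha
        apply hab
        rw [← h1']
        exact Subtype.ext ha
      · intro d hd
        have h3 : (⟨d, hd⟩ : D) ∈ ({a, b} : Set D) := by rw [huniv]; trivial
        rcases h3 with h3 | h3
        · right
          exact congrArg Subtype.val h3
        · left
          have h3' : (⟨d, hd⟩ : D) = b := h3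
          rw [← h1'] at h3'
          exact congrArg Subtype.val h3'
  have hzc : ∀ d ∈ D, d * z = z * d := by
    intro d hd
    rcases hall d hd with h | h
    · rw [h]; simp
    · rw [h]
  have hPH : D ≤ Subgroup.centralizer ({z} : Set G) := by
    intro d hd
    rw [Subgroup.mem_centralizer_iff]
    intro h hh
    rw [Set.mem_singleton_iff.1 hh]
    exact (hzc d hd).symm
  have hCH : Subgroup.centralizer (D : Set G) ≤ Subgroup.centralizer ({z} : Set G) :=
    Subgroup.centralizer_le (by simpa using hzD)
  have hHN : Subgroup.centralizer ({z} : Set G) ≤ Subgroup.normalizer (D : Set G) := by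
    intro g hg
    rw [Subgroup.mem_centralizer_iff] at hg
    have hgz : z * g = g * z := hg z rfl
    have key : ∀ x : G, ∀ k : G, z * k = k * z → x ∈ D → k * x * k⁻¹ ∈ D := by
      intro x k hk hx
      rcases hall x hx with h | h
      · rw [h]; simp
      · rw [h, ← hk]; simpa using hzD
    rw [Subgroup.mem_normalizer_iff]
    intro x
    constructor
    · exact key x g hgz
    · intro hx
      have hk : z * g⁻¹ = g⁻¹ * z := by
        calc z * g⁻¹ = g⁻¹ * (g * z) * g⁻¹ := by group
          _ = g⁻¹ * (z * g) * g⁻¹ := by rw [hgz]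
          _ = g⁻¹ * z := by group
      have := key _ g⁻¹ hk hx
      simpa [mul_assoc] using this
  obtain ⟨b, hbD, hb⟩ :=
    Cfsg.Agent.Lib.Helper21.exists_block_of_defectGroup hM hPH hCH hHN B hB hD
  have hcen : D.subgroupOf (Subgroup.centralizer ({z} : Set G)) ≤
      Subgroup.center (Subgroup.centralizer ({z} : Set G)) := by
    intro d hd
    rw [Subgroup.mem_subgroupOf] at hd
    rw [Subgroup.mem_center_iff]
    intro g
    apply Subtype.ext
    have hg := g.2
    rw [Subgroup.mem_centralizer_iff] at hg
    have hgz : z * (g : G) = g * z := hg z rfl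
    show (g : G) * d = d * g
    rcases hall _ hd with h | h
    · rw [h]; simp
    · rw [h]; exact hgz.symm
  have : Fintype (Subgroup.centralizer ({z} : Set G)) := Fintype.ofFinite _
  have hl : blockRank p b = 1 := Cfsg.Agent.S4669.result p M hM b hb.1 _ hbD hcen
  have hle : Nat.card B ≤ p ^ blockDefect p B :=
    Cfsg.Agent.S4539.result p M hM B hB D hD z hzD hzc b hb hbD (by omega)
  rw [← hcard, h2] at hle
  obtain ⟨hlk, hd1, hd2⟩ := Cfsg.Agent.S4733.result p M hM B hB
  obtain ⟨χ, hχ⟩ : B.Nonempty := Cfsg.Agent.Lib.Helper81.isPBlock_nonempty hM hB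
  have hl1 := one_le_blockRank p B χ hχ
  have hd0 : blockDefect p B ≠ 0 := by
    intro h0
    rw [h0, pow_zero] at hcard
    omega
  have hne : Nat.card B ≠ blockRank p B := fun h => hd0 (hd2.2 h)
  omega

end Cfsg.Agent.Lib.Helper83
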