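import Cfsg.Agent.S0860
import Cfsg.Agent.Lib.Helper83.Basic2

set_option autoImplicit false

namespace Cfsg.Agent.Lib.Helper83

open Cfsg.Agent.Lib.Helper20
open scoped ComplexConjugate

/-- Brauer's permutation lemma for a single compatible pair of maps. -/
theorem brauer_perm_pair {G : Type*} [Group G] [Finite G]
    (π : IrrCharacter G → IrrCharacter G) (π' : Equiv.Perm (ConjClasses G))
    (hcompat : ∀ (χ : IrrCharacter G) (g g' : G), ConjClasses.mk g' = π' (ConjClasses.mk g) →
      ((π χ : IrrCharacter G) : G → ℂ) g' = (χ : G → ℂ) g) :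
    Nat.card {χ : IrrCharacter G // π χ = χ} = Nat.card {C : ConjClasses G // π' C = C} := by
  classical
  have := Fintype.ofFinite G
  have := Fintype.ofFinite (IrrCharacter G)
  have : Fintype (ConjClasses G) := Fintype.ofFinite _
  have hG : (Nat.card G : ℂ) ≠ 0 := card_ne_zero_complex
  apply Nat.cast_injective (R := ℂ)
  have hL : (Nat.card {χ : IrrCharacter G // π χ = χ} : ℂ)
      = ∑ χ : IrrCharacter G, classInner ((π χ : IrrCharacter G) : G → ℂ) (χ : G → ℂ) := by
    rw [Nat.card_eq_fintype_card, Fintype.card_subtype, Finset.card_filter]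
    push_cast
    apply Finset.sum_congr rfl
    intro χ _
    rw [classInner_irr (π χ).2 χ.2]
    by_cases h : π χ = χ
    · rw [if_pos h, if_pos (congrArg Subtype.val h)]
    · rw [if_neg h, if_neg (fun h' => h (Subtype.ext h'))]
  have hR : (Nat.card {C : ConjClasses G // π' C = C} : ℂ)
      = ∑ C : ConjClasses G, (if π' C = C then (1 : ℂ) else 0) := by
    rw [Nat.card_eq_fintype_card, Fintype.card_subtype, Finset.card_filter]
    push_cast
    rfl
  rw [hL, hR, ← Cfsg.Agent.S0860.sum_div_class]
  unfold classInner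
  rw [← Finset.mul_sum, Finset.sum_comm, Finset.mul_sum]
  apply Finset.sum_congr rfl
  intro g _
  set g' : G := Quotient.out (π'.symm (ConjClasses.mk g)) with hg'
  have hmk : ConjClasses.mk g' = π'.symm (ConjClasses.mk g) := Quotient.out_eq _
  have hmk' : ConjClasses.mk g = π' (ConjClasses.mk g') := by rw [hmk, Equiv.apply_symm_apply]
  have h1 : ∀ χ : IrrCharacter G, ((π χ : IrrCharacter G) : G → ℂ) g = (χ : G → ℂ) g' :=
    fun χ => hcompat χ g' g hmk'
  simp only [h1]
  rw [sum_irr_mul_conj g' g]
  have hiff : IsConj g' g ↔ π' (ConjClasses.mk g) = ConjClasses.mk g := by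
    rw [← ConjClasses.mk_eq_mk_iff_isConj, hmk, Equiv.symm_apply_eq, eq_comm]
  by_cases h : IsConj g' g
  · rw [if_pos h, if_pos (hiff.mp h)]
    have hc : Nat.card {x : G // IsConj g x} = Nat.card {x : G // IsConj g' x} := by
      apply Nat.card_congr
      exact Equiv.subtypeEquivRight (fun x => ⟨fun hx => h.trans hx, fun hx => h.symm.trans hx⟩)
    rw [hc, card_isConj_eq_index]
    have h2 := (Subgroup.centralizer ({g'} : Set G)).card_mul_index
    have h3 : (Nat.card (Subgroup.centralizer ({g'} : Set G)) : ℂ)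
        * ((Subgroup.centralizer ({g'} : Set G)).index : ℂ) = (Nat.card G : ℂ) := by exact_mod_cast h2
    have h4 : ((Subgroup.centralizer ({g'} : Set G)).index : ℂ) ≠ 0 := by
      intro h0
      rw [h0, mul_zero] at h3
      exact hG h3.symm
    rw [← h3]
    have h5 : (Nat.card (Subgroup.centralizer ({g'} : Set G)) : ℂ) ≠ 0 := by
      intro h0
      rw [h0, zero_mul] at h3
      exact hG h3.symm
    field_simp
  · rw [if_neg h, if_neg (fun h' => h (hiff.mpr h'))]
    simp

end Cfsg.Agent.Lib.Helper83
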