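import Cfsg.Agent.Lib.Helper83.OddReal

set_option autoImplicit false

namespace Cfsg.Agent.Lib.Helper83

open Cfsg.Agent.Lib.Helper20 Cfsg.Agent.Lib.Helper78 Cfsg.Agent.Lib.Helper5
open scoped ComplexConjugate

variable {G : Type*} [Group G] [Finite G]

theorem card_real_irr_eq :
    Nat.card {χ : IrrCharacter G // ∀ g : G, ((χ : G → ℂ) g).im = 0} =
      Nat.card {C : ConjClasses G // classInv C = C} := by
  have h := brauer_perm_pair (G := G) irrBar (classInv_involutive.toPerm)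
    (by
      intro χ g g' hg
      have hg' : ConjClasses.mk g' = ConjClasses.mk g⁻¹ := hg
      have hconj := ConjClasses.mk_eq_mk_iff_isConj.mp hg'
      show conj ((χ : G → ℂ) g') = (χ : G → ℂ) g
      rw [isChar_isConj (IsIrr.isChar χ.2) hconj, isChar_inv (IsIrr.isChar χ.2)]
      simp)
  have h2 : Nat.card {χ : IrrCharacter G // ∀ g : G, ((χ : G → ℂ) g).im = 0} =
      Nat.card {χ : IrrCharacter G // irrBar χ = χ} := by
    apply Nat.card_congr
    apply Equiv.subtypeEquivRight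
    intro χ
    constructor
    · intro h
      apply Subtype.ext
      funext k
      exact Complex.conj_eq_iff_im.mpr (h k)
    · intro h k
      have := congrFun (congrArg Subtype.val h) k
      exact Complex.conj_eq_iff_im.mp this
  rw [h2, h]
  rfl

omit [Finite G] in
theorem card_real_classes_eq (N : Subgroup G) [N.Normal] (hodd : Odd N.index) :
    Nat.card (Quot (fun x y : {x : ↥N // IsConj x x⁻¹} => ∃ g : G, (y.1 : G) = g * x.1 * g⁻¹)) =
      Nat.card {C : ConjClasses G // classInv C = C} := by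
  let f : Quot (fun x y : {x : ↥N // IsConj x x⁻¹} => ∃ g : G, (y.1 : G) = g * x.1 * g⁻¹) →
      {C : ConjClasses G // classInv C = C} :=
    Quot.lift (fun x => ⟨ConjClasses.mk (x.1 : G), by
      rw [classInv_mk]
      apply ConjClasses.mk_eq_mk_iff_isConj.mpr
      obtain ⟨c, hc⟩ := isConj_iff.mp x.2
      apply IsConj.symm
      apply isConj_iff.mpr
      refine ⟨(c : G), ?_⟩
      have := congrArg Subtype.val hc
      simpa using this⟩) (by
      rintro x y ⟨g, hg⟩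
      apply Subtype.ext
      apply ConjClasses.mk_eq_mk_iff_isConj.mpr
      exact isConj_iff.mpr ⟨g, hg.symm⟩)
  apply Nat.card_congr
  refine Equiv.ofBijective f ⟨?_, ?_⟩
  · intro a b
    induction a using Quot.ind with | _ x => ?_
    induction b using Quot.ind with | _ y => ?_
    intro h
    have h1 : ConjClasses.mk (x.1 : G) = ConjClasses.mk (y.1 : G) := congrArg Subtype.val h
    obtain ⟨g, hg⟩ := isConj_iff.mp (ConjClasses.mk_eq_mk_iff_isConj.mp h1)
    exact Quot.sound ⟨g, hg.symm⟩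
  · rintro ⟨C, hC⟩
    obtain ⟨g, rfl⟩ := ConjClasses.mk_surjective C
    rw [classInv_mk] at hC
    have h1 : IsConj g g⁻¹ := (ConjClasses.mk_eq_mk_iff_isConj.mp hC).symm
    obtain ⟨hg, h2⟩ := real_mem_of_odd_index N hodd h1
    exact ⟨Quot.mk _ ⟨⟨g, hg⟩, h2⟩, rfl⟩

/-- the unique real character over a real character of an odd-index normal subgroup -/
theorem real_over_unique (N : Subgroup G) [N.Normal] (hodd : Odd N.index)
    [Fintype N] {φ : N → ℂ}
    (hφ : IsIrrCharacter N φ) (hreal : ∀ n : N, (φ n).im = 0)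
    (χ₁ χ₂ : IrrCharacter G) (h₁ : ∀ g : G, ((χ₁ : G → ℂ) g).im = 0)
    (h₂ : ∀ g : G, ((χ₂ : G → ℂ) g).im = 0)
    (ho₁ : classInner (fun n : N => (χ₁ : G → ℂ) n) φ ≠ 0)
    (ho₂ : classInner (fun n : N => (χ₂ : G → ℂ) n) φ ≠ 0) : χ₁ = χ₂ := by
  classical
  have := Fintype.ofFinite G
  have hN : N.Normal := inferInstance
  let r := (fun θ η : {θ : Cfsg.IrrCharacter ↥N // (∀ k : ↥N, ((θ : ↥N → ℂ) k).im = 0)} =>
      ∃ g : G, ∀ k k' : ↥N, (k' : G) = g * (k : G) * g⁻¹ → (η.1 : ↥N → ℂ) k' = (θ.1 : ↥N → ℂ) k)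
  have hcard : Nat.card (Quot r) =
      Nat.card {χ : IrrCharacter G // ∀ g : G, ((χ : G → ℂ) g).im = 0} := by
    rw [card_real_irr_eq, ← card_real_classes_eq N hodd]
    exact real_orbits_main N hodd
  have hex : ∀ q : Quot r, ∃ χ : IrrCharacter G, (∀ g : G, ((χ : G → ℂ) g).im = 0) ∧
      classInner (fun n : N => (χ : G → ℂ) n) (q.out.1 : N → ℂ) ≠ 0 :=
    fun q => exists_real_over N hodd q.out.1.2 q.out.2
  let F : Quot r → {χ : IrrCharacter G // ∀ g : G, ((χ : G → ℂ) g).im = 0} :=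
    fun q => ⟨(hex q).choose, (hex q).choose_spec.1⟩
  have hF : ∀ q, classInner (fun n : N => ((F q).1 : G → ℂ) n) (q.out.1 : N → ℂ) ≠ 0 :=
    fun q => (hex q).choose_spec.2
  -- key : two real constituents of the same character are related
  have key : ∀ (χ : IrrCharacter G)
      (a b : {θ : Cfsg.IrrCharacter ↥N // (∀ k : ↥N, ((θ : ↥N → ℂ) k).im = 0)}),
      classInner (fun n : N => (χ : G → ℂ) n) (a.1 : N → ℂ) ≠ 0 →
      classInner (fun n : N => (χ : G → ℂ) n) (b.1 : N → ℂ) ≠ 0 → Quot.mk r a = Quot.mk r b := by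
    intro χ a b ha hb
    by_contra hne
    apply hb
    apply clifford_inner_zero hN χ.2 a.1.2 ha b.1.2
    intro g hg
    apply hne
    symm
    apply Quot.sound
    refine ⟨g, ?_⟩
    intro k k' hk
    rw [hg, cjF_apply]
    exact congrArg _ (Subtype.ext hk)
  have hinj : Function.Injective F := by
    intro q q' h
    have h1 := hF q
    have h2 := hF q'
    rw [← h] at h2
    have := key _ _ _ h1 h2
    rwa [Quot.out_eq, Quot.out_eq] at this
  have hbij : Function.Bijective F :=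
    hinj.bijective_of_nat_card_le (le_of_eq hcard.symm)
  obtain ⟨q₁, hq₁⟩ := hbij.2 ⟨χ₁, h₁⟩
  obtain ⟨q₂, hq₂⟩ := hbij.2 ⟨χ₂, h₂⟩
  have e₁ : q₁ = Quot.mk r ⟨⟨φ, hφ⟩, hreal⟩ := by
    have h1 := hF q₁
    rw [hq₁] at h1
    have := key χ₁ q₁.out ⟨⟨φ, hφ⟩, hreal⟩ h1 ho₁
    rwa [Quot.out_eq] at this
  have e₂ : q₂ = Quot.mk r ⟨⟨φ, hφ⟩, hreal⟩ := by
    have h1 := hF q₂
    rw [hq₂] at h1
    have := key χ₂ q₂.out ⟨⟨φ, hφ⟩, hreal⟩ h1 ho₂
    rwa [Quot.out_eq] at this
  have : (⟨χ₁, h₁⟩ : {χ : IrrCharacter G // ∀ g : G, ((χ : G → ℂ) g).im = 0}) = ⟨χ₂, h₂⟩ := by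
    rw [← hq₁, ← hq₂, e₁, e₂]
  exact congrArg Subtype.val this

end Cfsg.Agent.Lib.Helper83
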