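import Mathlib

set_option autoImplicit false

namespace Cfsg.Agent.Lib.Helper83

theorem fixed_comp_iff {G Ω : Type*} [Group G] [MulAction G Ω] (σ : Ω → Ω)
    (hσ : Function.Involutive σ) (hcomm : ∀ (g : G) (ω : Ω), σ (g • ω) = g • σ ω) (g : G) (m : ℕ)
    (hm : Odd m) (hg : ∀ ω : Ω, g ^ m • ω = ω) (ω : Ω) :
    σ (g • ω) = ω ↔ (σ ω = ω ∧ g • ω = ω) := by
  constructor
  · intro h
    have hc : Function.Commute σ (g • · : Ω → Ω) := fun ω => hcomm g ω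
    have h1 : (σ ∘ (g • · : Ω → Ω))^[m] ω = ω := Function.iterate_fixed h m
    rw [hc.comp_iterate, hσ.iterate_odd hm, smul_iterate] at h1
    have h2 : σ ω = ω := by
      have : σ (g ^ m • ω) = ω := h1
      rwa [hg] at this
    refine ⟨h2, ?_⟩
    have := congrArg σ h
    rw [hσ, h2] at this
    exact this
  · rintro ⟨h1, h2⟩
    rw [h2, h1]

/-- Burnside count comparison on the fixed points of commuting involutions. -/
theorem card_orbits_eq_of_fixed {G Ω₁ Ω₂ : Type*} [Group G] [Finite G] [MulAction G Ω₁]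
    [MulAction G Ω₂] [Finite Ω₁] [Finite Ω₂]
    (σ₁ : Ω₁ → Ω₁) (σ₂ : Ω₂ → Ω₂) (hσ₁ : Function.Involutive σ₁) (hσ₂ : Function.Involutive σ₂)
    (hc₁ : ∀ (g : G) (ω : Ω₁), σ₁ (g • ω) = g • σ₁ ω)
    (hc₂ : ∀ (g : G) (ω : Ω₂), σ₂ (g • ω) = g • σ₂ ω)
    (m : ℕ) (hm : Odd m) (hg₁ : ∀ (g : G) (ω : Ω₁), g ^ m • ω = ω)
    (hg₂ : ∀ (g : G) (ω : Ω₂), g ^ m • ω = ω)
    (hfix : ∀ g : G, Nat.card {ω : Ω₁ // σ₁ (g • ω) = ω} = Nat.card {ω : Ω₂ // σ₂ (g • ω) = ω})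
    (S₁ : SubMulAction G Ω₁) (S₂ : SubMulAction G Ω₂)
    (hS₁ : ∀ ω, ω ∈ S₁ ↔ σ₁ ω = ω) (hS₂ : ∀ ω, ω ∈ S₂ ↔ σ₂ ω = ω) :
    Nat.card (MulAction.orbitRel.Quotient G S₁) = Nat.card (MulAction.orbitRel.Quotient G S₂) := by
  classical
  have := Fintype.ofFinite G
  have := Fintype.ofFinite (MulAction.orbitRel.Quotient G S₁)
  have := Fintype.ofFinite (MulAction.orbitRel.Quotient G S₂)
  have : ∀ g : G, Fintype (MulAction.fixedBy S₁ g) := fun g => Fintype.ofFinite _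
  have : ∀ g : G, Fintype (MulAction.fixedBy S₂ g) := fun g => Fintype.ofFinite _
  have b1 := MulAction.sum_card_fixedBy_eq_card_orbits_mul_card_group G S₁
  have b2 := MulAction.sum_card_fixedBy_eq_card_orbits_mul_card_group G S₂
  have key₁ : ∀ g : G, Fintype.card (MulAction.fixedBy S₁ g) =
      Nat.card {ω : Ω₁ // σ₁ (g • ω) = ω} := by
    intro g
    rw [← Nat.card_eq_fintype_card]
    apply Nat.card_congr
    refine ⟨fun a => ⟨a.1.1, ?_⟩, fun a => ⟨⟨a.1, ?_⟩, ?_⟩, fun a => rfl, fun a => rfl⟩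
    · rw [fixed_comp_iff σ₁ hσ₁ hc₁ g m hm (hg₁ g)]
      exact ⟨(hS₁ _).mp a.1.2, congrArg Subtype.val a.2⟩
    · exact (hS₁ _).mpr ((fixed_comp_iff σ₁ hσ₁ hc₁ g m hm (hg₁ g) a.1).mp a.2).1
    · apply Subtype.ext
      exact ((fixed_comp_iff σ₁ hσ₁ hc₁ g m hm (hg₁ g) a.1).mp a.2).2
  have key₂ : ∀ g : G, Fintype.card (MulAction.fixedBy S₂ g) =
      Nat.card {ω : Ω₂ // σ₂ (g • ω) = ω} := by
    intro g
    rw [← Nat.card_eq_fintype_card]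
    apply Nat.card_congr
    refine ⟨fun a => ⟨a.1.1, ?_⟩, fun a => ⟨⟨a.1, ?_⟩, ?_⟩, fun a => rfl, fun a => rfl⟩
    · rw [fixed_comp_iff σ₂ hσ₂ hc₂ g m hm (hg₂ g)]
      exact ⟨(hS₂ _).mp a.1.2, congrArg Subtype.val a.2⟩
    · exact (hS₂ _).mpr ((fixed_comp_iff σ₂ hσ₂ hc₂ g m hm (hg₂ g) a.1).mp a.2).1
    · apply Subtype.ext
      exact ((fixed_comp_iff σ₂ hσ₂ hc₂ g m hm (hg₂ g) a.1).mp a.2).2
  have e : ∑ g : G, Fintype.card (MulAction.fixedBy S₁ g) =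
      ∑ g : G, Fintype.card (MulAction.fixedBy S₂ g) :=
    Finset.sum_congr rfl (fun g _ => by rw [key₁, key₂, hfix])
  rw [b1, b2] at e
  rw [Nat.card_eq_fintype_card, Nat.card_eq_fintype_card]
  exact Nat.eq_of_mul_eq_mul_right Fintype.card_pos e

end Cfsg.Agent.Lib.Helper83
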