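import Cfsg.Agent.Lib.Helper83.BrauerPerm
import Cfsg.Agent.Lib.Helper83.OrbitCount

set_option autoImplicit false

namespace Cfsg.Agent.Lib.Helper83

open scoped ComplexConjugate

variable {G : Type*} [Group G] (K : Subgroup G) [K.Normal]

/-- conjugation action of `G` on the irreducible characters of a normal subgroup. -/
@[reducible] def irrConjAction : MulAction G (IrrCharacter K) where
  smul g θ := ⟨fun k => (θ : K → ℂ) (MulAut.conjNormal g⁻¹ k),
    isIrr_comp_surjective (MulAut.conjNormal g⁻¹ : K ≃* K).toMonoidHom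
      (MulAut.conjNormal g⁻¹ : K ≃* K).surjective θ.2⟩
  one_smul θ := by
    apply Subtype.ext
    funext k
    show (θ : K → ℂ) (MulAut.conjNormal (1 : G)⁻¹ k) = (θ : K → ℂ) k
    simp
  mul_smul g h θ := by
    apply Subtype.ext
    funext k
    show (θ : K → ℂ) (MulAut.conjNormal (g * h)⁻¹ k) =
      (θ : K → ℂ) (MulAut.conjNormal h⁻¹ (MulAut.conjNormal g⁻¹ k))
    rw [mul_inv_rev, map_mul]; rfl

/-- conjugation action of `G` on the conjugacy classes of a normal subgroup. -/
@[reducible] def classConjAction : MulAction G (ConjClasses K) where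
  smul g C := ConjClasses.map (MulAut.conjNormal g : K ≃* K).toMonoidHom C
  one_smul C := by
    obtain ⟨x, rfl⟩ := ConjClasses.mk_surjective C
    show ConjClasses.mk ((MulAut.conjNormal (1 : G) : K ≃* K) x) = ConjClasses.mk x
    simp
  mul_smul g h C := by
    obtain ⟨x, rfl⟩ := ConjClasses.mk_surjective C
    show ConjClasses.mk ((MulAut.conjNormal (g * h) : K ≃* K) x) =
      ConjClasses.mk ((MulAut.conjNormal g : K ≃* K) ((MulAut.conjNormal h : K ≃* K) x))
    rw [map_mul]; rfl

theorem isIrr_conj {H : Type*} [Group H] [Finite H] {θ : H → ℂ} (h : IsIrrCharacter H θ) :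
    IsIrrCharacter H (fun k => conj (θ k)) := by
  classical
  have := Fintype.ofFinite H
  apply Cfsg.Agent.Lib.Helper20.isIrrCharacter_of_classInner_self
    (Cfsg.Agent.Lib.Helper20.isCharacter_conj (IsIrr.isChar h))
  have h1 := row_orth h h
  rw [if_pos rfl] at h1
  have h2 := congrArg conj h1
  rw [map_one] at h2
  rw [← h2]
  unfold classInner
  simp [map_sum]

/-- complex conjugation on irreducible characters. -/
noncomputable def irrBar {H : Type*} [Group H] [Finite H] (θ : IrrCharacter H) : IrrCharacter H :=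
  ⟨fun k => conj ((θ : H → ℂ) k), isIrr_conj θ.2⟩

/-- inversion on conjugacy classes. -/
def classInv {H : Type*} [Group H] : ConjClasses H → ConjClasses H :=
  Quotient.lift (fun x => ConjClasses.mk x⁻¹) (fun a b hab => by
    apply ConjClasses.mk_eq_mk_iff_isConj.mpr
    obtain ⟨c, hc⟩ := isConj_iff.mp hab
    rw [isConj_iff]
    exact ⟨c, by rw [← hc]; group⟩)

theorem classInv_mk {H : Type*} [Group H] (x : H) :
    classInv (ConjClasses.mk x) = ConjClasses.mk x⁻¹ := rfl

theorem irrBar_involutive {H : Type*} [Group H] [Finite H] :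
    Function.Involutive (irrBar (H := H)) := by
  intro θ
  apply Subtype.ext
  funext k
  simp [irrBar]

theorem classInv_involutive {H : Type*} [Group H] : Function.Involutive (classInv (H := H)) := by
  intro C
  obtain ⟨x, rfl⟩ := ConjClasses.mk_surjective C
  simp [classInv_mk]


theorem real_orbits_main [Finite G] (hodd : Odd K.index) :
    Nat.card (Quot (fun θ η : {θ : Cfsg.IrrCharacter ↥K // (∀ k : ↥K, ((θ : ↥K → ℂ) k).im = 0)} =>
      ∃ g : G, ∀ k k' : ↥K, (k' : G) = g * (k : G) * g⁻¹ → (η.1 : ↥K → ℂ) k' = (θ.1 : ↥K → ℂ) k)) =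
    Nat.card (Quot (fun x y : {x : ↥K // IsConj x x⁻¹} => ∃ g : G, (y.1 : G) = g * x.1 * g⁻¹)) := by
  classical
  let _ := irrConjAction K
  let _ := classConjAction K
  have smul_irr : ∀ (g : G) (θ : IrrCharacter K) (k : K),
      ((g • θ : IrrCharacter K) : K → ℂ) k = (θ : K → ℂ) (MulAut.conjNormal g⁻¹ k) :=
    fun _ _ _ => rfl
  have smul_cls : ∀ (g : G) (x : K),
      g • (ConjClasses.mk x : ConjClasses K) = ConjClasses.mk (MulAut.conjNormal g x) :=
    fun _ _ => rfl
  have hc₁ : ∀ (g : G) (θ : IrrCharacter K), irrBar (g • θ) = g • irrBar θ := fun _ _ => rfl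
  have hc₂ : ∀ (g : G) (C : ConjClasses K), classInv (g • C) = g • classInv C := by
    intro g C
    obtain ⟨x, rfl⟩ := ConjClasses.mk_surjective C
    rw [smul_cls, classInv_mk, classInv_mk, smul_cls, map_inv]
  have hK₁ : ∀ h ∈ K, ∀ θ : IrrCharacter K, h • θ = θ := by
    intro h hh θ
    apply Subtype.ext
    funext k
    rw [smul_irr]
    have : MulAut.conjNormal h⁻¹ k = (⟨h, hh⟩ : K)⁻¹ * k * (⟨h, hh⟩ : K)⁻¹⁻¹ := by
      apply Subtype.ext
      simp
    rw [this, isChar_conj (IsIrr.isChar θ.2)]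
  have hK₂ : ∀ h ∈ K, ∀ C : ConjClasses K, h • C = C := by
    intro h hh C
    obtain ⟨x, rfl⟩ := ConjClasses.mk_surjective C
    rw [smul_cls, ConjClasses.mk_eq_mk_iff_isConj, isConj_iff]
    refine ⟨(⟨h, hh⟩ : K)⁻¹, ?_⟩
    apply Subtype.ext
    simp [MulAut.conjNormal_apply, mul_assoc]
  have hfix : ∀ g : G, Nat.card {θ : IrrCharacter K // irrBar (g • θ) = θ} =
      Nat.card {C : ConjClasses K // classInv (g • C) = C} := by
    intro g
    have := brauer_perm_pair (G := K) (fun θ => irrBar (g • θ))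
      ((MulAction.toPerm g).trans (classInv_involutive.toPerm))
      (by
        intro θ k k' hk
        have hk' : ConjClasses.mk k' = ConjClasses.mk (MulAut.conjNormal g k)⁻¹ := hk
        have hconj := ConjClasses.mk_eq_mk_iff_isConj.mp hk'
        show conj ((θ : K → ℂ) (MulAut.conjNormal g⁻¹ k')) = (θ : K → ℂ) k
        have h1 : IsCharacter K (fun k => (θ : K → ℂ) (MulAut.conjNormal g⁻¹ k)) :=
          IsIrr.isChar (g • θ).2
        have h2 := isChar_isConj h1 hconj
        rw [h2, map_inv, ← MulAut.mul_apply, ← map_mul, inv_mul_cancel, map_one,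
          MulAut.one_apply, isChar_inv (IsIrr.isChar θ.2)]
        simp)
    exact this
  let S₁ : SubMulAction G (IrrCharacter K) :=
    { carrier := {θ | ∀ k : K, ((θ : K → ℂ) k).im = 0}
      smul_mem' := fun g θ hθ k => hθ _ }
  let S₂ : SubMulAction G (ConjClasses K) :=
    { carrier := {C | classInv C = C}
      smul_mem' := fun g C hC => by
        show classInv (g • C) = g • C
        rw [hc₂, hC] }
  have hS₁ : ∀ θ, θ ∈ S₁ ↔ irrBar θ = θ := by
    intro θ
    constructor
    · intro h
      apply Subtype.ext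
      funext k
      exact Complex.conj_eq_iff_im.mpr (h k)
    · intro h k
      have := congrFun (congrArg Subtype.val h) k
      exact Complex.conj_eq_iff_im.mp this
  have hS₂ : ∀ C, C ∈ S₂ ↔ classInv C = C := fun _ => Iff.rfl
  have main := card_orbits_eq_of_fixed (G := G) irrBar classInv irrBar_involutive
    classInv_involutive hc₁ hc₂ K.index hodd
    (fun g θ => hK₁ _ (Subgroup.pow_index_mem K g) θ)
    (fun g C => hK₂ _ (Subgroup.pow_index_mem K g) C) hfix S₁ S₂ hS₁ hS₂
  have e₁ : Nat.card (Quot (fun θ η : {θ : Cfsg.IrrCharacter ↥K //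
      (∀ k : ↥K, ((θ : ↥K → ℂ) k).im = 0)} =>
      ∃ g : G, ∀ k k' : ↥K, (k' : G) = g * (k : G) * g⁻¹ →
        (η.1 : ↥K → ℂ) k' = (θ.1 : ↥K → ℂ) k)) =
      Nat.card (MulAction.orbitRel.Quotient G S₁) := by
    apply Nat.card_congr
    refine Quot.congr (Equiv.refl _) ?_
    intro θ η
    show _ ↔ (MulAction.orbitRel G S₁) θ η
    rw [MulAction.orbitRel_apply]
    constructor
    · rintro ⟨g, hg⟩
      refine ⟨g⁻¹, ?_⟩
      apply Subtype.ext
      apply Subtype.ext
      funext k
      show (η.1 : K → ℂ) (MulAut.conjNormal g⁻¹⁻¹ k) = (θ.1 : K → ℂ) k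
      apply hg
      rw [inv_inv, MulAut.conjNormal_apply]
    · rintro ⟨g, hg⟩
      refine ⟨g⁻¹, ?_⟩
      intro k k' hk
      have h1 : (θ.1 : K → ℂ) k = (η.1 : K → ℂ) (MulAut.conjNormal g⁻¹ k) := by
        have := congrFun (congrArg (fun z => (z.1 : K → ℂ)) hg) k
        exact this.symm
      rw [h1]
      have h2 : k' = MulAut.conjNormal g⁻¹ k := by
        apply Subtype.ext
        rw [hk, MulAut.conjNormal_apply]
      rw [h2]
  have e₂ : Nat.card (Quot (fun x y : {x : ↥K // IsConj x x⁻¹} =>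
      ∃ g : G, (y.1 : G) = g * x.1 * g⁻¹)) = Nat.card (MulAction.orbitRel.Quotient G S₂) := by
    let f₀ : {x : ↥K // IsConj x x⁻¹} → S₂ := fun x => ⟨ConjClasses.mk x.1, by
      show classInv (ConjClasses.mk x.1) = ConjClasses.mk x.1
      rw [classInv_mk]
      exact ConjClasses.mk_eq_mk_iff_isConj.mpr x.2.symm⟩
    let f : Quot (fun x y : {x : ↥K // IsConj x x⁻¹} => ∃ g : G, (y.1 : G) = g * x.1 * g⁻¹) →
        MulAction.orbitRel.Quotient G S₂ :=
      Quot.lift (fun x => Quotient.mk _ (f₀ x)) (by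
        rintro x y ⟨g, hg⟩
        apply Quotient.sound
        show (MulAction.orbitRel G S₂) (f₀ x) (f₀ y)
        rw [MulAction.orbitRel_apply]
        refine ⟨g⁻¹, ?_⟩
        apply Subtype.ext
        show g⁻¹ • (ConjClasses.mk y.1 : ConjClasses K) = ConjClasses.mk x.1
        rw [smul_cls]
        congr 1
        apply Subtype.ext
        rw [MulAut.conjNormal_apply, hg]
        group)
    apply Nat.card_eq_of_bijective f
    constructor
    · rintro ⟨x⟩ ⟨y⟩ hxy
      have h1 : (MulAction.orbitRel G S₂) (f₀ x) (f₀ y) := Quotient.exact hxy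
      rw [MulAction.orbitRel_apply] at h1
      obtain ⟨g, hg⟩ := h1
      have h2 : g • (ConjClasses.mk y.1 : ConjClasses K) = ConjClasses.mk x.1 :=
        congrArg Subtype.val hg
      rw [smul_cls] at h2
      obtain ⟨c, hc⟩ := isConj_iff.mp (ConjClasses.mk_eq_mk_iff_isConj.mp h2)
      symm
      apply Quot.sound
      refine ⟨(c : G) * g, ?_⟩
      have h3 := congrArg Subtype.val hc
      simp only [Subgroup.coe_mul, MulAut.conjNormal_apply, Subgroup.coe_inv] at h3
      rw [← h3]
      group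
    · intro q
      obtain ⟨⟨C, hC⟩, rfl⟩ := Quotient.exists_rep q
      obtain ⟨x, rfl⟩ := ConjClasses.mk_surjective C
      have hx : IsConj x x⁻¹ := by
        have : classInv (ConjClasses.mk x) = ConjClasses.mk x := hC
        rw [classInv_mk] at this
        exact (ConjClasses.mk_eq_mk_iff_isConj.mp this).symm
      exact ⟨Quot.mk _ ⟨x, hx⟩, rfl⟩
  rw [e₁, e₂, main]

end Cfsg.Agent.Lib.Helper83
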